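import Mathlib
import Cfsg.Agent.S2457
import Cfsg.Agent.Lib.Chars.Ops

/-! Sums of class functions over the Suzuki group along its partition. -/

set_option autoImplicit false

namespace Cfsg.Agent.Lib.SuzukiChars

open Cfsg.Agent.Lib Cfsg.Agent.Lib.Suzuki Cfsg.Agent.Lib.SuzukiSubgroups Cfsg.Agent.Lib.SuzukiSolv
open Cfsg.Agent.S2337 (psi psi_apply psi_theta psi_sq psi_sum one_notMem)

variable {F : Type*} [Field F] [Fintype F] {m : ℕ} (h : Hyp F m)
include h

open Classical in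
theorem filter_psi (a : F) (ha : a ≠ 0) (c : ℂ) (d : ℂ) :
    ∑ b : F, (if psi h (b / a) = 1 then c else d) = (Fintype.card F : ℂ) / 2 * (c + d) := by
  have h1 : ∀ b : F, (if psi h (b / a) = 1 then c else d) = (c + d) / 2 + (c - d) / 2 * psi h (a⁻¹ * b) := by
    intro b
    rw [show b / a = a⁻¹ * b by ring]
    rcases S2457.psi_pm h (a⁻¹ * b) with e | e
    · rw [e, if_pos rfl]; ring
    · rw [e, if_neg (by norm_num)]; ring
  rw [Finset.sum_congr rfl fun b _ => h1 b, Finset.sum_add_distrib, ← Finset.mul_sum, psi_sum,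
    if_neg (inv_ne_zero ha), Finset.sum_const, Finset.card_univ, nsmul_eq_mul]
  ring

theorem transl_value {f : Cfsg.Sz F m → ℂ} (hf : Cfsg.IsClassFunction (Cfsg.Sz F m) f) :
    (∀ b, b ≠ 0 → f (szT h 0 b) = f (szT h 0 1)) ∧
    ∀ a b, a ≠ 0 → f (szT h a b) =
      if psi h (b / (a * theta m a)) = 1 then f (szT h 1 0) else f (szT h 1 1) := by
  constructor
  · intro b hb
    obtain ⟨c, hc⟩ := conj_invol_normal h 0 b rfl hb
    rw [← hc, hf]
  · intro a b ha
    have key : ∀ y, psi h (b / (a * theta m a)) = psi h y → f (szT h a b) = f (szT h 1 y) := fun y e => by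
      obtain ⟨c, hc⟩ := isConj_iff.1 (S2457.conj_of_psi h ha one_ne_zero (b := b) (b' := y) (by
        rw [e, theta_one, mul_one, div_one]))
      rw [← hc, hf]
    split_ifs with e
    · exact key 0 (by rw [e, AddChar.map_zero_eq_one])
    · exact key 1 (by rw [(S2457.psi_pm h _).resolve_left e, S2457.psi_one])

open Classical in
theorem sum_transl {f : Cfsg.Sz F m → ℂ} (hf : Cfsg.IsClassFunction (Cfsg.Sz F m) f) :
    ∑ p : F × F, f (szT h p.1 p.2) = f 1 + ((Fintype.card F : ℂ) - 1) * f (szT h 0 1) +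
      ((Fintype.card F : ℂ) - 1) * ((Fintype.card F : ℂ) / 2 * (f (szT h 1 0) + f (szT h 1 1))) := by
  obtain ⟨h0, h1⟩ := transl_value h hf
  have hrow : ∀ a : F, a ≠ 0 →
      ∑ b : F, f (szT h a b) = (Fintype.card F : ℂ) / 2 * (f (szT h 1 0) + f (szT h 1 1)) := fun a ha => by
    rw [Finset.sum_congr rfl fun b _ => h1 a b ha, filter_psi h _ (mul_ne_zero ha (theta_ne_zero ha))]
  rw [Fintype.sum_prod_type, ← Finset.add_sum_erase _ _ (Finset.mem_univ (0 : F)),
    Finset.sum_congr rfl fun a ha => hrow a (Finset.mem_erase.1 ha).1, Finset.sum_const,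
    Finset.card_erase_of_mem (Finset.mem_univ _), Finset.card_univ,
    ← Finset.add_sum_erase _ _ (Finset.mem_univ (0 : F)), szT_one,
    Finset.sum_congr rfl fun b hb => h0 b (Finset.mem_erase.1 hb).1, Finset.sum_const,
    Finset.card_erase_of_mem (Finset.mem_univ _), Finset.card_univ, nsmul_eq_mul, nsmul_eq_mul,
    Nat.cast_sub Fintype.card_pos]
  push_cast
  ring

/-- The translations as pairs. -/
noncomputable def translEquiv : F × F ≃ transl h :=
  Equiv.ofBijective (fun p => ⟨szT h p.1 p.2, szT_mem_transl h p.1 p.2⟩)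
    ⟨fun p q e => Prod.ext (szT_inj h (congrArg Subtype.val e)).1 (szT_inj h (congrArg Subtype.val e)).2,
      fun ⟨_, a, b, e⟩ => ⟨(a, b), Subtype.ext e.symm⟩⟩

theorem translEquiv_apply (p : F × F) : ((translEquiv h p : transl h) : Cfsg.Sz F m) = szT h p.1 p.2 := rfl

variable [Fintype (Cfsg.Sz F m)]

open Classical in
/-- The sum over the nontrivial elements of a subgroup. -/
noncomputable def punc (U : Subgroup (Cfsg.Sz F m)) (f : Cfsg.Sz F m → ℂ) : ℂ :=
  ∑ g : Cfsg.Sz F m, if g ∈ U ∧ g ≠ 1 then f g else 0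

open Classical in
theorem punc_eq (U : Subgroup (Cfsg.Sz F m)) (f : Cfsg.Sz F m → ℂ) :
    punc U f = (∑ u : U, f u) - f 1 := by
  rw [punc, ← Finset.sum_filter, eq_sub_iff_add_eq, add_comm]
  rw [show (Finset.univ.filter fun g => g ∈ U ∧ g ≠ 1) = (Finset.univ.filter fun g : Cfsg.Sz F m => g ∈ U).erase 1 by
    ext g; simp [and_comm], Finset.add_sum_erase _ _ (by simp [U.one_mem])]
  exact Finset.sum_subtype _ (fun g => by simp) _

theorem punc_cmap {f : Cfsg.Sz F m → ℂ} (hf : Cfsg.IsClassFunction (Cfsg.Sz F m) f) (c : Cfsg.Sz F m)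
    (U : Subgroup (Cfsg.Sz F m)) : punc (cmap c U) f = punc U f := by
  classical
  unfold punc
  refine (Fintype.sum_equiv (MulAut.conj c).toEquiv _ _ fun g => ?_).symm
  show _ = if c * g * c⁻¹ ∈ cmap c U ∧ c * g * c⁻¹ ≠ 1 then f (c * g * c⁻¹) else 0
  rw [hf]
  refine if_congr ?_ rfl rfl
  rw [mem_cmap, show c⁻¹ * (c * g * c⁻¹) * c = g by group]
  exact and_congr_right' (not_congr (conj_eq_one_iff.symm))

theorem punc_transl {f : Cfsg.Sz F m → ℂ} (hf : Cfsg.IsClassFunction (Cfsg.Sz F m) f) :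
    punc (transl h) f = ((Fintype.card F : ℂ) - 1) * f (szT h 0 1) +
      ((Fintype.card F : ℂ) - 1) * ((Fintype.card F : ℂ) / 2 * (f (szT h 1 0) + f (szT h 1 1))) := by
  classical
  rw [punc_eq h, ← Fintype.sum_equiv (translEquiv h) (fun p => f (szT h p.1 p.2)) _ fun p => rfl, sum_transl h hf]
  ring

/-- The orders of the cyclic members. -/
def n₀ (_h : Hyp F m) : ℕ := 2 ^ (2 * m + 1) - 1
/-- The order of the larger elliptic member. -/
def n₁ (_h : Hyp F m) : ℕ := 2 ^ (2 * m + 1) + 2 ^ (m + 1) + 1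
/-- The order of the smaller elliptic member. -/
def n₂ (_h : Hyp F m) : ℕ := 2 ^ (2 * m + 1) - 2 ^ (m + 1) + 1

theorem typeSet_card {U : Subgroup (Cfsg.Sz F m)} {n e : ℕ} (hU : U ∈ typeSet h n)
    (hN : Nat.card (Subgroup.normalizer (U : Set (Cfsg.Sz F m))) = e * n) :
    ((typeSet h n).ncard : ℂ) * ((e : ℂ) * (n : ℂ)) = (Nat.card (Cfsg.Sz F m) : ℂ) := by
  rw [← card_typeSet h hU, hN]; push_cast; ring

open Classical in
theorem sum_all {f : Cfsg.Sz F m → ℂ} (hf : Cfsg.IsClassFunction (Cfsg.Sz F m) f)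
    {U₀ U₁ U₂ : Subgroup (Cfsg.Sz F m)} (hU₀ : U₀ ∈ typeSet h (n₀ h)) (hU₁ : U₁ ∈ typeSet h (n₁ h))
    (hU₂ : U₂ ∈ typeSet h (n₂ h)) :
    ∑ g, f g = f 1 + ((Fintype.card F : ℂ) ^ 2 + 1) * punc (transl h) f +
      (typeSet h (n₀ h)).ncard * punc U₀ f + (typeSet h (n₁ h)).ncard * punc U₁ f +
      (typeSet h (n₂ h)).ncard * punc U₂ f := by
  let _ : Fintype (Cfsg.suzukiOvoid F m) := Fintype.ofFinite _
  let _ : Fintype (Subgroup (Cfsg.Sz F m)) := Fintype.ofFinite _
  obtain ⟨h8, h4, hr, -⟩ := numbers h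
  let T : ℕ → Finset (Subgroup (Cfsg.Sz F m)) := fun n => Finset.univ.filter fun U => U ∈ typeSet h n
  have hd : ∀ {a b : ℕ}, a ≠ b → Disjoint (T a) (T b) := fun {a b} hab =>
    Finset.disjoint_filter.2 fun U _ hU hU' => hab (hU.2.symm.trans hU'.2)
  set A := T (n₀ h) ∪ T (n₁ h) ∪ T (n₂ h) with hA
  have hmem : ∀ U, U ∈ A ↔ CycU h U := by
    intro U
    simp only [hA, T, Finset.mem_union, Finset.mem_filter, Finset.mem_univ, true_and]
    refine ⟨?_, fun hU => ?_⟩
    · rintro ((hU | hU) | hU) <;> exact hU.1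
    · rcases cyc_types h hU with ⟨-, e, -⟩ | ⟨-, e | e, -⟩
      · exact Or.inl (Or.inl ⟨hU, e⟩)
      · exact Or.inl (Or.inr ⟨hU, e⟩)
      · exact Or.inr ⟨hU, e⟩
  have hpt : ∀ g : Cfsg.Sz F m, (if g = 1 then 0 else f g) =
      (∑ p : Cfsg.suzukiOvoid F m, if g ∈ transAt h p ∧ g ≠ 1 then f g else 0) +
        ∑ U ∈ A, if g ∈ U ∧ g ≠ 1 then f g else 0 := by
    intro g
    by_cases hg : g = 1
    · simp [hg]
    rw [if_neg hg]
    rcases exists_member h hg with ⟨p, hp⟩ | ⟨V, hV, hgV⟩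
    · rw [Finset.sum_eq_single p (fun q _ hq => if_neg fun hc => hq
        (eq_of_mem_transAt h hp hg (fix_of_mem_transAt h hc.1))) (by simp), if_pos ⟨hp, hg⟩,
        Finset.sum_eq_zero fun U hU => if_neg fun hc => hg
          (eq_one_of_mem_transAt_of_mem_cyc h ((hmem U).1 hU) hp hc.1), add_zero]
    · rw [Finset.sum_eq_zero fun q _ => if_neg fun hc => hg
          (eq_one_of_mem_transAt_of_mem_cyc h hV hc.1 hgV),
        Finset.sum_eq_single V (fun U hU hne => if_neg fun hc => hne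
          (cyc_eq_of_mem h ((hmem U).1 hU) hV hc.1 hgV hg)) (fun hn => absurd ((hmem V).2 hV) hn),
        if_pos ⟨hgV, hg⟩, zero_add]
  have h1 : ∑ g, f g = f 1 + ∑ g : Cfsg.Sz F m, (if g = 1 then 0 else f g) := by
    rw [← Finset.add_sum_erase _ _ (Finset.mem_univ (1 : Cfsg.Sz F m))]
    congr 1
    rw [← Finset.add_sum_erase _ (fun g : Cfsg.Sz F m => if g = 1 then 0 else f g) (Finset.mem_univ 1),
      if_pos rfl, zero_add]
    exact Finset.sum_congr rfl fun g hg => by rw [if_neg (Finset.mem_erase.1 hg).1]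
  rw [h1, Finset.sum_congr rfl fun g _ => hpt g, Finset.sum_add_distrib,
    Finset.sum_comm, Finset.sum_comm (s := Finset.univ) (t := A)]
  have hpu : ∀ V : Subgroup (Cfsg.Sz F m), (∑ g : Cfsg.Sz F m, if g ∈ V ∧ g ≠ 1 then f g else 0) = punc V f :=
    fun V => rfl
  simp only [hpu]
  have hp : ∀ p : Cfsg.suzukiOvoid F m, punc (transAt h p) f = punc (transl h) f := fun p => by
    obtain ⟨k, hk⟩ := exists_move h p
    rw [transAt_eq h hk, punc_cmap h hf]
  rw [Finset.sum_congr rfl fun p _ => hp p, Finset.sum_const, Finset.card_univ, nsmul_eq_mul,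
    ← Nat.card_eq_fintype_card, card_ovoid, hA]
  have hne : n₀ h ≠ n₁ h ∧ n₀ h ≠ n₂ h ∧ n₁ h ≠ n₂ h := by unfold n₀ n₁ n₂; omega
  rw [Finset.sum_union (Finset.disjoint_union_left.2 ⟨hd hne.2.1, hd hne.2.2⟩), Finset.sum_union (hd hne.1)]
  have ht : ∀ n U, U ∈ typeSet h n → ∑ V ∈ T n, punc V f = (typeSet h n).ncard * punc U f := by
    intro n U hU
    rw [Finset.sum_eq_card_nsmul (b := punc U f) fun V hV => by
      obtain ⟨c, hc⟩ := conj_of_card_eq h hU.1 (Finset.mem_filter.1 hV).2.1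
        (hU.2.trans (Finset.mem_filter.1 hV).2.2.symm)
      rw [← hc, punc_cmap h hf], nsmul_eq_mul]
    congr 2
    rw [← Set.ncard_coe_finset]
    congr 1
    ext V
    simp [T]
  rw [ht _ U₀ hU₀, ht _ U₁ hU₁, ht _ U₂ hU₂]
  push_cast
  ring

end Cfsg.Agent.Lib.SuzukiChars
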