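import Mathlib
import Cfsg.Agent.Lib.SuzukiChars.Sums
import Cfsg.Agent.Lib.Chars.Induced
import Cfsg.Agent.Lib.Chars.PermChar

/-! The characters over the Borel subgroup of the Suzuki group. -/

set_option autoImplicit false

namespace Cfsg.Agent.Lib.SuzukiChars

open Cfsg.Agent.Lib Cfsg.Agent.Lib.Suzuki Cfsg.Agent.Lib.SuzukiSubgroups Cfsg.Agent.Lib.SuzukiSolv
open MulAction
open scoped ComplexConjugate

theorem indFun_stab {G X : Type*} [Group G] [Fintype G] [MulAction G X] [Fintype X] (x₀ : X) (k : X → G)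
    (hk : ∀ p, k p • x₀ = p) (θ : stabilizer G x₀ →* ℂˣ) (g : G) :
    Cfsg.indFun (stabilizer G x₀) (fun b => (θ b : ℂ)) g =
      ∑ p, Cfsg.extendByZero (stabilizer G x₀) (fun b => (θ b : ℂ)) ((k p)⁻¹ * g * k p) := by
  classical
  let e : X × stabilizer G x₀ ≃ G :=
    { toFun := fun q => k q.1 * q.2
      invFun := fun x => (x • x₀, ⟨(k (x • x₀))⁻¹ * x, by
        rw [mem_stabilizer_iff, mul_smul, inv_smul_eq_iff, hk]⟩)
      left_inv := fun q => by
        have hq : (k q.1 * q.2) • x₀ = q.1 := by rw [mul_smul, q.2.2, hk]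
        refine Prod.ext hq (Subtype.ext ?_)
        simp only [hq, inv_mul_cancel_left]
      right_inv := fun x => by simp }
  rw [Cfsg.indFun, inv_mul_eq_iff_eq_mul₀ Chars.natCard_ne_zero,
    ← Fintype.sum_equiv e (fun q => Cfsg.extendByZero (stabilizer G x₀) (fun b => (θ b : ℂ))
      ((e q)⁻¹ * g * e q)) _ fun q => rfl, Fintype.sum_prod_type, Finset.mul_sum]
  refine Finset.sum_congr rfl fun p _ => ?_
  have hc : ∀ b : stabilizer G x₀, Cfsg.extendByZero (stabilizer G x₀) (fun b => (θ b : ℂ))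
      ((e (p, b))⁻¹ * g * e (p, b)) =
      Cfsg.extendByZero (stabilizer G x₀) (fun b => (θ b : ℂ)) ((k p)⁻¹ * g * k p) := by
    intro b
    have hy : (e (p, b))⁻¹ * g * e (p, b) = (b : G)⁻¹ * ((k p)⁻¹ * g * k p) * b := by
      show (k p * (b : G))⁻¹ * g * (k p * (b : G)) = _
      simp only [mul_inv_rev, mul_assoc]
    rw [hy]
    generalize (k p)⁻¹ * g * k p = y
    by_cases hmem : y ∈ stabilizer G x₀
    · rw [Chars.extendByZero_of_mem _ hmem, Chars.extendByZero_of_mem _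
        (mul_mem (mul_mem (inv_mem b.2) hmem) b.2)]
      rw [show (⟨(b : G)⁻¹ * y * b, mul_mem (mul_mem (inv_mem b.2) hmem) b.2⟩ : stabilizer G x₀) =
        b⁻¹ * ⟨y, hmem⟩ * b from rfl, map_mul, map_mul, map_inv, inv_mul_cancel_comm]
    · rw [Chars.extendByZero_of_not_mem _ hmem, Chars.extendByZero_of_not_mem _
        (fun hc => hmem ((Subgroup.mul_mem_cancel_left _ (inv_mem b.2)).1
          ((Subgroup.mul_mem_cancel_right _ b.2).1 hc)))]
  rw [Finset.sum_congr rfl fun b _ => hc b, Finset.sum_const, Finset.card_univ, nsmul_eq_mul,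
    Fintype.card_eq_nat_card]

variable {F : Type*} [Field F] [Fintype F] {m : ℕ} (h : Hyp F m)
include h

theorem stabProj_eq {g : stabilizer (Cfsg.Sz F m) (ovInf F m)} {a b : F} {u : Fˣ}
    (e : (g : Cfsg.Sz F m) = szT h a b * szH h u) : stabProj h g = u :=
  (stab_exists_unique h g).unique (stab_exists_unique h g).exists.choose_spec ⟨a, b, e⟩

/-- A linear character of the Borel subgroup. -/
noncomputable def linB (φ : Fˣ →* ℂˣ) : stabilizer (Cfsg.Sz F m) (ovInf F m) →* ℂˣ := φ.comp (stabProj h)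

theorem linB_apply (φ : Fˣ →* ℂˣ) {g : stabilizer (Cfsg.Sz F m) (ovInf F m)} {a b : F} {u : Fˣ}
    (e : (g : Cfsg.Sz F m) = szT h a b * szH h u) : linB h φ g = φ u := by
  rw [linB, MonoidHom.comp_apply, stabProj_eq h e]

variable [Fintype (Cfsg.Sz F m)]

/-- The induced character. -/
noncomputable def indB (φ : Fˣ →* ℂˣ) : Cfsg.Sz F m → ℂ :=
  Cfsg.indFun (stabilizer (Cfsg.Sz F m) (ovInf F m)) (fun b => (linB h φ b : ℂ))

theorem isCharacter_indB (φ : Fˣ →* ℂˣ) : Cfsg.IsCharacter (Cfsg.Sz F m) (indB h φ) :=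
  Chars.isCharacter_indFun _ (Chars.isCharacter_hom _)

theorem indB_one (φ : Fˣ →* ℂˣ) : indB h φ 1 = (Fintype.card F : ℂ) ^ 2 + 1 := by
  have := isPretransitive_ovoid h
  rw [indB, Chars.indFun_one_eq, index_stabilizer_of_transitive, card_ovoid, map_one]
  simp

theorem indB_term_zero (φ : Fˣ →* ℂˣ) {g k : Cfsg.Sz F m} (hg : g • k • ovInf F m ≠ k • ovInf F m) :
    Cfsg.extendByZero (stabilizer (Cfsg.Sz F m) (ovInf F m)) (fun b => (linB h φ b : ℂ)) (k⁻¹ * g * k) = 0 :=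
  Chars.extendByZero_of_not_mem _ fun hc => hg (by
    have hc' := mem_stabilizer_iff.1 hc
    rwa [mul_smul, mul_smul, inv_smul_eq_iff] at hc')

theorem indB_nofix (φ : Fˣ →* ℂˣ) {g : Cfsg.Sz F m} (hg : ∀ p : Cfsg.suzukiOvoid F m, g • p ≠ p) :
    indB h φ g = 0 := by
  classical
  let _ : Fintype (Cfsg.suzukiOvoid F m) := Fintype.ofFinite _
  choose k hk using exists_move h
  rw [indB, indFun_stab _ k hk]
  exact Finset.sum_eq_zero fun p _ => indB_term_zero h φ (hg _)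

theorem indB_transl (φ : Fˣ →* ℂˣ) {a b : F} (hab : szT h a b ≠ 1) : indB h φ (szT h a b) = 1 := by
  classical
  let _ : Fintype (Cfsg.suzukiOvoid F m) := Fintype.ofFinite _
  choose k hk using exists_move h
  rw [indB, indFun_stab _ k hk, Finset.sum_eq_single (ovInf F m) (fun p _ hp => indB_term_zero h φ
    (by rw [hk]; exact fun hc => hp (SuzukiSylow.eq_inf_of_fixed h hab hc))) (by simp)]
  have hkB : k (ovInf F m) ∈ stabilizer (Cfsg.Sz F m) (ovInf F m) := hk _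
  have htB : szT h a b ∈ stabilizer (Cfsg.Sz F m) (ovInf F m) := szT_inf h a b
  rw [Chars.extendByZero_of_mem _ (mul_mem (mul_mem (inv_mem hkB) htB) hkB)]
  rw [show (⟨(k (ovInf F m))⁻¹ * szT h a b * k (ovInf F m), mul_mem (mul_mem (inv_mem hkB) htB) hkB⟩ :
      stabilizer (Cfsg.Sz F m) (ovInf F m)) = (⟨_, hkB⟩)⁻¹ * ⟨_, htB⟩ * ⟨_, hkB⟩ from rfl, map_mul, map_mul,
    map_inv, inv_mul_cancel_comm, linB_apply h φ (g := ⟨_, htB⟩) (a := a) (b := b) (u := 1)
      (by simp [szH_one]), map_one, Units.val_one]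

theorem indB_szH (φ : Fˣ →* ℂˣ) {u : Fˣ} (hu : u ≠ 1) :
    indB h φ (szH h u) = (φ u : ℂ) + (φ u⁻¹ : ℂ) := by
  classical
  let _ : Fintype (Cfsg.suzukiOvoid F m) := Fintype.ofFinite _
  choose k hk using exists_move h
  rw [indB, indFun_stab _ k hk, Finset.sum_eq_add (ovInf F m) (ovAff m (0 : F) 0)
    (ovAff_ne_inf (0 : F) 0).symm (fun p _ hp => indB_term_zero h φ
      (by rw [hk]; exact fun hc => (fix_szH h hu hc).elim hp.1 hp.2)) (by simp) (by simp)]
  congr 1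
  · have hkB : k (ovInf F m) ∈ stabilizer (Cfsg.Sz F m) (ovInf F m) := hk _
    have hH : szH h u ∈ stabilizer (Cfsg.Sz F m) (ovInf F m) := szH_inf h u
    rw [Chars.extendByZero_of_mem _ (mul_mem (mul_mem (inv_mem hkB) hH) hkB)]
    rw [show (⟨(k (ovInf F m))⁻¹ * szH h u * k (ovInf F m), mul_mem (mul_mem (inv_mem hkB) hH) hkB⟩ :
        stabilizer (Cfsg.Sz F m) (ovInf F m)) = (⟨_, hkB⟩)⁻¹ * ⟨_, hH⟩ * ⟨_, hkB⟩ from rfl, map_mul, map_mul,
      map_inv, inv_mul_cancel_comm, linB_apply h φ (g := ⟨_, hH⟩) (a := 0) (b := 0) (u := u)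
        (by simp [szT_one])]
  · set z := k (ovAff m (0 : F) 0) with hz
    have hbB : szW h * z ∈ stabilizer (Cfsg.Sz F m) (ovInf F m) := by
      rw [mem_stabilizer_iff, mul_smul, hz, hk, szW_zero]
    have hH : szH h u⁻¹ ∈ stabilizer (Cfsg.Sz F m) (ovInf F m) := szH_inf h u⁻¹
    have he : z⁻¹ * szH h u * z = (szW h * z)⁻¹ * szH h u⁻¹ * (szW h * z) := by
      have e1 : szW h * szH h u * szW h = szH h u⁻¹ := by
        rw [szW_mul_szH, mul_assoc, szW_mul_self, mul_one]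
      rw [← e1, mul_inv_rev, szW_inv]
      simp only [mul_assoc]
      rw [← mul_assoc (szW h) (szW h), szW_mul_self, one_mul, ← mul_assoc (szW h) (szW h), szW_mul_self, one_mul]
    rw [he, Chars.extendByZero_of_mem _ (mul_mem (mul_mem (inv_mem hbB) hH) hbB)]
    rw [show (⟨(szW h * z)⁻¹ * szH h u⁻¹ * (szW h * z), mul_mem (mul_mem (inv_mem hbB) hH) hbB⟩ :
        stabilizer (Cfsg.Sz F m) (ovInf F m)) = (⟨_, hbB⟩)⁻¹ * ⟨_, hH⟩ * ⟨_, hbB⟩ from rfl, map_mul, map_mul,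
      map_inv, inv_mul_cancel_comm, linB_apply h φ (g := ⟨_, hH⟩) (a := 0) (b := 0) (u := u⁻¹)
        (by simp [szT_one])]

theorem indB_borel (φ : Fˣ →* ℂˣ) (a b : F) {u : Fˣ} (hu : u ≠ 1) :
    indB h φ (szT h a b * szH h u) = (φ u : ℂ) + (φ u⁻¹ : ℂ) := by
  have hg : (szT h a b * szH h u) • ovInf F m = ovInf F m := by rw [mul_smul, szH_inf, szT_inf]
  have hne : ∀ c d, szT h a b * szH h u ≠ szT h c d := fun c d e =>
    hu (szT_szH_inj h (e.trans (by rw [szH_one, mul_one]) : szT h a b * szH h u = szT h c d * szH h 1)).2.2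
  rcases eq_conj_of_fix_inf h (fun e => hne 0 0 (e.trans (szT_one h).symm)) hg with ⟨c, d, e⟩ | ⟨k, v, hv, e⟩
  · exact absurd e (hne c d)
  have hcl : indB h φ (szT h a b * szH h u) = indB h φ (szH h v) := by
    rw [e]; exact Chars.isClassFunction_indFun _ _ _ _
  rw [hcl, indB_szH h φ hv]
  have hfix : szH h v • k⁻¹ • ovInf F m = k⁻¹ • ovInf F m := by
    conv_rhs => rw [← hg, e, mul_smul, mul_smul, inv_smul_smul]
  have hgB : szT h a b * szH h u ∈ stabilizer (Cfsg.Sz F m) (ovInf F m) := hg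
  rcases fix_szH h hv hfix with hk | hk
  · have hkB : k ∈ stabilizer (Cfsg.Sz F m) (ovInf F m) := by
      rw [mem_stabilizer_iff, eq_comm, ← inv_smul_eq_iff, hk]
    have hH : szH h v ∈ stabilizer (Cfsg.Sz F m) (ovInf F m) := szH_inf h v
    have e' : (⟨_, hgB⟩ : stabilizer (Cfsg.Sz F m) (ovInf F m)) = ⟨_, hkB⟩ * ⟨_, hH⟩ * (⟨_, hkB⟩)⁻¹ := Subtype.ext e
    have := congrArg (stabProj h) e'
    rw [stabProj_eq h (g := ⟨_, hgB⟩) (a := a) (b := b) (u := u) rfl, map_mul, map_mul, map_inv,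
      mul_inv_cancel_comm, stabProj_eq h (g := ⟨_, hH⟩) (a := 0) (b := 0) (u := v) (by simp [szT_one])] at this
    rw [this]
  · have hkB : k * szW h ∈ stabilizer (Cfsg.Sz F m) (ovInf F m) := by
      rw [mem_stabilizer_iff, mul_smul, szW_inf, eq_comm, ← inv_smul_eq_iff, hk]
    have hH : szH h v⁻¹ ∈ stabilizer (Cfsg.Sz F m) (ovInf F m) := szH_inf h v⁻¹
    have e' : (⟨_, hgB⟩ : stabilizer (Cfsg.Sz F m) (ovInf F m)) = ⟨_, hkB⟩ * ⟨_, hH⟩ * (⟨_, hkB⟩)⁻¹ :=
      Subtype.ext (e.trans (by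
        show k * szH h v * k⁻¹ = k * szW h * szH h v⁻¹ * (k * szW h)⁻¹
        rw [mul_inv_rev, szW_inv, mul_assoc k (szW h), szW_mul_szH, inv_inv]
        simp only [mul_assoc]
        rw [← mul_assoc (szW h) (szW h), szW_mul_self, one_mul]))
    have := congrArg (stabProj h) e'
    rw [stabProj_eq h (g := ⟨_, hgB⟩) (a := a) (b := b) (u := u) rfl, map_mul, map_mul, map_inv,
      mul_inv_cancel_comm, stabProj_eq h (g := ⟨_, hH⟩) (a := 0) (b := 0) (u := v⁻¹) (by simp [szT_one])] at this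
    rw [this, inv_inv, add_comm]

/-- Coordinates on the Borel subgroup. -/
noncomputable def borelEquiv : Fˣ × (F × F) ≃ stabilizer (Cfsg.Sz F m) (ovInf F m) :=
  Equiv.ofBijective (fun x => ⟨szT h x.2.1 x.2.2 * szH h x.1, by
      rw [mem_stabilizer_iff, mul_smul, szH_inf, szT_inf]⟩)
    ⟨fun x y e => by
      obtain ⟨h1, h2, h3⟩ := szT_szH_inj h (congrArg Subtype.val e)
      exact Prod.ext h3 (Prod.ext h1 h2),
    fun g => by
      obtain ⟨a, b, u, e⟩ := eq_szT_szH_of_fix h g.2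
      exact ⟨(u, (a, b)), Subtype.ext e.symm⟩⟩

theorem borelEquiv_apply (x : Fˣ × (F × F)) :
    ((borelEquiv h x : stabilizer (Cfsg.Sz F m) (ovInf F m)) : Cfsg.Sz F m) = szT h x.2.1 x.2.2 * szH h x.1 := rfl

open Classical in
theorem classInner_indB {f : Cfsg.Sz F m → ℂ} (hf : Cfsg.IsClassFunction (Cfsg.Sz F m) f) (φ : Fˣ →* ℂˣ) :
    (Nat.card (stabilizer (Cfsg.Sz F m) (ovInf F m)) : ℂ) * Cfsg.classInner f (indB h φ) =
      ∑ u : Fˣ, conj (φ u : ℂ) * ∑ p : F × F, f (szT h p.1 p.2 * szH h u) := by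
  let _ : Fintype (stabilizer (Cfsg.Sz F m) (ovInf F m)) := Fintype.ofFinite _
  rw [indB, Chars.classInner_indFun_right _ _ _ hf, Cfsg.classInner,
    mul_inv_cancel_left₀ Chars.natCard_ne_zero,
    ← Fintype.sum_equiv (borelEquiv h) (fun x => conj (φ x.1 : ℂ) * f (szT h x.2.1 x.2.2 * szH h x.1)) _
      (fun x => by rw [linB_apply h φ (borelEquiv_apply h x), borelEquiv_apply, mul_comm]),
    Fintype.sum_prod_type]
  simp only [Finset.mul_sum]

theorem natCard_borel : (Nat.card (stabilizer (Cfsg.Sz F m) (ovInf F m)) : ℂ) =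
    (Fintype.card F : ℂ) ^ 2 * ((Fintype.card F : ℂ) - 1) := by
  rw [card_stab_inf h, Nat.cast_mul, Nat.cast_pow, Nat.cast_sub Fintype.card_pos]
  simp

omit h in
omit [Fintype (Cfsg.Sz F m)] in
theorem conj_hom (φ : Fˣ →* ℂˣ) (u : Fˣ) : conj (φ u : ℂ) = (φ u⁻¹ : ℂ) := by
  rw [map_inv, Units.val_inv_eq_inv_val, Complex.inv_eq_conj (Chars.norm_hom_apply φ u)]

omit [Fintype (Cfsg.Sz F m)] in
theorem sum_hom_sq {φ : Fˣ →* ℂˣ} (hφ : φ ≠ 1) [Fintype Fˣ] : ∑ u : Fˣ, (φ u : ℂ) ^ 2 = 0 := by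
  obtain ⟨v, hv⟩ : ∃ v, φ v ≠ 1 := by
    by_contra hc
    push Not at hc
    exact hφ (MonoidHom.ext hc)
  have hv2 : (φ v : ℂ) ^ 2 ≠ 1 := fun e => hv (by
    have e' : φ (v * v) = 1 := by
      refine Units.ext ?_
      rw [map_mul, Units.val_mul, ← sq, e, Units.val_one]
    have hodd : Odd (Nat.card Fˣ) := by
      rw [Nat.card_units, Nat.card_eq_fintype_card, Nat.odd_iff]
      have := two_dvd_card_field h
      have : 0 < Fintype.card F := Fintype.card_pos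
      omega
    obtain ⟨j, hj⟩ := exists_pow_eq_self_of_coprime (x := v) (n := 2)
      (Nat.coprime_two_left.2 (hodd.of_dvd_nat (orderOf_dvd_natCard v)))
    rw [← hj, map_pow, sq, e', one_pow])
  have hshift : ∑ u : Fˣ, (φ u : ℂ) ^ 2 = (φ v : ℂ) ^ 2 * ∑ u : Fˣ, (φ u : ℂ) ^ 2 := by
    rw [Finset.mul_sum]
    refine (Fintype.sum_equiv (Equiv.mulLeft v) _ _ fun u => ?_).symm
    simp [mul_pow]
  exact (mul_eq_zero.1 (by linear_combination hshift :
    (1 - (φ v : ℂ) ^ 2) * ∑ u : Fˣ, (φ u : ℂ) ^ 2 = 0)).resolve_left (sub_ne_zero.2 (Ne.symm hv2))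

open Classical in
theorem isIrr_indB {φ : Fˣ →* ℂˣ} (hφ : φ ≠ 1) : Cfsg.IsIrrCharacter (Cfsg.Sz F m) (indB h φ) := by
  rw [Chars.isIrrCharacter_iff_classInner_eq_one (isCharacter_indB h φ)]
  have hq0 : (Nat.card (stabilizer (Cfsg.Sz F m) (ovInf F m)) : ℂ) ≠ 0 := Chars.natCard_ne_zero
  refine mul_left_cancel₀ hq0 ?_
  rw [mul_one, classInner_indB h (f := indB h φ) (Chars.isClassFunction_indFun _ _) φ, natCard_borel h,
    ← Finset.add_sum_erase _ _ (Finset.mem_univ (1 : Fˣ))]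
  have h1 : ∑ p : F × F, indB h φ (szT h p.1 p.2 * szH h 1) = 2 * (Fintype.card F : ℂ) ^ 2 := by
    simp only [szH_one, mul_one]
    rw [← Finset.add_sum_erase _ _ (Finset.mem_univ (0 : F × F)), Prod.fst_zero, Prod.snd_zero, szT_one,
      indB_one, Finset.sum_congr rfl fun p hp => indB_transl h φ (a := p.1) (b := p.2) fun e =>
        (Finset.mem_erase.1 hp).1 (Prod.ext (szT_inj h (e.trans (szT_one h).symm)).1
          (szT_inj h (e.trans (szT_one h).symm)).2),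
      Finset.sum_const, Finset.card_erase_of_mem (Finset.mem_univ _), Finset.card_univ, nsmul_eq_mul,
      Fintype.card_prod, Nat.cast_sub (Nat.mul_pos Fintype.card_pos Fintype.card_pos)]
    push_cast; ring
  rw [h1, map_one, Units.val_one, map_one, one_mul]
  have h2 : ∀ u ∈ Finset.univ.erase (1 : Fˣ), conj (φ u : ℂ) * ∑ p : F × F, indB h φ (szT h p.1 p.2 * szH h u) =
      (Fintype.card F : ℂ) ^ 2 * (1 + (φ u⁻¹ : ℂ) ^ 2) := by
    intro u hu
    rw [Finset.sum_congr rfl fun p _ => indB_borel h φ p.1 p.2 (Finset.mem_erase.1 hu).1, Finset.sum_const,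
      Finset.card_univ, Fintype.card_prod, nsmul_eq_mul, conj_hom]
    have : (φ u⁻¹ : ℂ) * (φ u : ℂ) = 1 := by rw [← Units.val_mul, ← map_mul, inv_mul_cancel, map_one, Units.val_one]
    push_cast
    linear_combination (Fintype.card F : ℂ) ^ 2 * this
  rw [Finset.sum_congr rfl h2, ← Finset.mul_sum, Finset.sum_add_distrib, Finset.sum_const,
    Finset.card_erase_of_mem (Finset.mem_univ _), Finset.card_univ, nsmul_eq_mul, mul_one,
    Fintype.card_units, Nat.cast_sub, Nat.cast_sub Fintype.card_pos]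
  · have h3 : ∑ u ∈ Finset.univ.erase (1 : Fˣ), (φ u⁻¹ : ℂ) ^ 2 = -1 := by
      have h4 := sum_hom_sq h hφ
      rw [← Fintype.sum_equiv (Equiv.inv Fˣ) (fun u => (φ u⁻¹ : ℂ) ^ 2) _ (fun u => rfl),
        ← Finset.add_sum_erase _ _ (Finset.mem_univ (1 : Fˣ))] at h4
      simp only [inv_one, map_one, Units.val_one, one_pow] at h4
      linear_combination h4
    rw [h3]; push_cast; ring
  · have := Fintype.one_lt_card (α := F); omega

theorem exists_hom_ne {u : Fˣ} (hu : u ≠ 1) : ∃ φ : Fˣ →* ℂˣ, φ u ≠ 1 :=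
  CommGroup.exists_apply_ne_one_of_hasEnoughRootsOfUnity Fˣ ℂ hu

theorem exists_indB_irr : ∃ χ : Cfsg.IrrCharacter (Cfsg.Sz F m),
    (χ : Cfsg.Sz F m → ℂ) 1 = (Fintype.card F : ℂ) ^ 2 + 1 := by
  obtain ⟨u, hu⟩ := exists_unit_ne_one h
  obtain ⟨φ, hφ⟩ := exists_hom_ne h (u := u) (fun e => hu (by rw [e, Units.val_one]))
  exact ⟨⟨indB h φ, isIrr_indB h (fun e => hφ (by rw [e]; rfl))⟩, indB_one h φ⟩

/-- The Steinberg character. -/
noncomputable def stChar : Cfsg.IrrCharacter (Cfsg.Sz F m) :=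
  ⟨fun g => Chars.permChar (Cfsg.suzukiOvoid F m) g - 1, by
    have := isPretransitive_ovoid h
    have := SuzukiSylow.nontrivial_ovoid h
    exact (Chars.isIrrCharacter_permChar_sub_one_iff (Cfsg.suzukiOvoid F m)).2 (isMultiplyPretransitive_two h)⟩

theorem stChar_values : (stChar h : Cfsg.Sz F m → ℂ) 1 = (Fintype.card F : ℂ) ^ 2 ∧
    (∀ a b, szT h a b ≠ 1 → (stChar h : Cfsg.Sz F m → ℂ) (szT h a b) = 0) ∧
    ∀ g : Cfsg.Sz F m, (∀ p : Cfsg.suzukiOvoid F m, g • p ≠ p) → (stChar h : Cfsg.Sz F m → ℂ) g = -1 := by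
  refine ⟨?_, fun a b hab => ?_, fun g hg => ?_⟩
  · show (Nat.card (fixedBy (Cfsg.suzukiOvoid F m) (1 : Cfsg.Sz F m)) : ℂ) - 1 = _
    rw [fixedBy_one_eq_univ, Nat.card_congr (Equiv.Set.univ _), card_ovoid]
    push_cast; ring
  · show (Nat.card (fixedBy (Cfsg.suzukiOvoid F m) (szT h a b)) : ℂ) - 1 = _
    rw [show fixedBy (Cfsg.suzukiOvoid F m) (szT h a b) = {ovInf F m} from Set.eq_singleton_iff_unique_mem.2
      ⟨szT_inf h a b, fun p hp => SuzukiSylow.eq_inf_of_fixed h hab hp⟩]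
    simp
  · show (Nat.card (fixedBy (Cfsg.suzukiOvoid F m) g) : ℂ) - 1 = _
    rw [show fixedBy (Cfsg.suzukiOvoid F m) g = ∅ from Set.eq_empty_of_forall_notMem fun p hp => hg p hp]
    simp

theorem indB_one_eq : indB h 1 = Chars.permChar (Cfsg.suzukiOvoid F m) := by
  classical
  let _ : Fintype (Cfsg.suzukiOvoid F m) := Fintype.ofFinite _
  choose k hk using exists_move h
  funext g
  rw [indB, indFun_stab _ k hk]
  show _ = (Nat.card (fixedBy (Cfsg.suzukiOvoid F m) g) : ℂ)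
  rw [Nat.card_eq_fintype_card, Fintype.card_subtype, Finset.card_filter, Nat.cast_sum]
  refine Finset.sum_congr rfl fun p _ => ?_
  simp only [mem_fixedBy]
  by_cases hp : g • p = p
  · rw [if_pos hp, Chars.extendByZero_of_mem _ (by
      rw [mem_stabilizer_iff, mul_smul, mul_smul, hk, hp, inv_smul_eq_iff, hk])]
    simp [linB]
  · rw [if_neg hp, indB_term_zero h 1 (by rwa [hk])]
    simp

/-- The characters with a fixed vector under a Sylow 2-subgroup. -/
theorem cases_fixed {χ : Cfsg.IrrCharacter (Cfsg.Sz F m)}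
    (hS : ∑ p : F × F, (χ : Cfsg.Sz F m → ℂ) (szT h p.1 p.2) ≠ 0) :
    χ = Chars.trivialIrr (Cfsg.Sz F m) ∨ χ = stChar h ∨
      ((χ : Cfsg.Sz F m → ℂ) 1 = (Fintype.card F : ℂ) ^ 2 + 1 ∧
        (∀ a b, szT h a b ≠ 1 → (χ : Cfsg.Sz F m → ℂ) (szT h a b) = 1) ∧
        ∀ g : Cfsg.Sz F m, (∀ p : Cfsg.suzukiOvoid F m, g • p ≠ p) → (χ : Cfsg.Sz F m → ℂ) g = 0) := by
  classical
  have : Finite (Fˣ →* ℂˣ) := Nat.finite_of_card_ne_zero (by
    rw [CommGroup.card_monoidHom_of_hasEnoughRootsOfUnity]; exact Nat.card_pos.ne')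
  let _ : Fintype (Fˣ →* ℂˣ) := Fintype.ofFinite _
  obtain ⟨φ, hφ⟩ : ∃ φ : Fˣ →* ℂˣ, Cfsg.classInner (χ : Cfsg.Sz F m → ℂ) (indB h φ) ≠ 0 := by
    by_contra hc
    push Not at hc
    have hz : ∑ φ : Fˣ →* ℂˣ, ∑ u : Fˣ, conj (φ u : ℂ) *
        ∑ p : F × F, (χ : Cfsg.Sz F m → ℂ) (szT h p.1 p.2 * szH h u) = 0 :=
      Finset.sum_eq_zero fun φ _ => by rw [← classInner_indB h (Chars.irr_isClassFunction χ) φ, hc φ, mul_zero]
    rw [Finset.sum_comm] at hz
    simp only [← Finset.sum_mul] at hz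
    have horth : ∀ u : Fˣ, u ≠ 1 → ∑ φ : Fˣ →* ℂˣ, conj (φ u : ℂ) = 0 := fun u hu => by
      obtain ⟨ψ, hψ⟩ := exists_hom_ne h hu
      have e : conj (ψ u : ℂ) * ∑ φ : Fˣ →* ℂˣ, conj (φ u : ℂ) = ∑ φ : Fˣ →* ℂˣ, conj (φ u : ℂ) := by
        rw [Finset.mul_sum]
        refine Fintype.sum_equiv (Equiv.mulLeft ψ) _ _ fun φ => ?_
        simp
      refine (mul_eq_zero.1 (by linear_combination e :
        (conj (ψ u : ℂ) - 1) * ∑ φ : Fˣ →* ℂˣ, conj (φ u : ℂ) = 0)).resolve_left (sub_ne_zero.2 fun e1 => hψ ?_)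
      refine Units.ext ?_
      rw [← Complex.conj_conj (ψ u : ℂ), e1, map_one, Units.val_one]
    rw [Finset.sum_eq_single (1 : Fˣ) (fun u _ hu => by rw [horth u hu, zero_mul]) (by simp)] at hz
    simp only [map_one, Units.val_one, Finset.sum_const, Finset.card_univ, nsmul_eq_mul, mul_one, szH_one] at hz
    rcases mul_eq_zero.1 hz with e | e
    · exact Fintype.card_ne_zero (Nat.cast_eq_zero.1 e)
    · exact hS e
  rcases eq_or_ne φ 1 with rfl | hne
  · rw [indB_one_eq] at hφ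
    have hd : (Chars.permChar (Cfsg.suzukiOvoid F m) : Cfsg.Sz F m → ℂ) =
        (Chars.trivialIrr (Cfsg.Sz F m) : Cfsg.Sz F m → ℂ) + (stChar h : Cfsg.Sz F m → ℂ) := by
      funext g
      show _ = 1 + (Chars.permChar (Cfsg.suzukiOvoid F m) g - 1)
      ring
    rw [hd, Chars.classInner_add_right] at hφ
    by_contra hn
    push Not at hn
    rw [Chars.classInner_irr_of_ne hn.1, Chars.classInner_irr_of_ne hn.2.1, add_zero] at hφ
    exact hφ rfl
  · have hχ : χ = ⟨indB h φ, isIrr_indB h hne⟩ := by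
      by_contra hn
      exact hφ (Chars.classInner_irr_of_ne hn)
    subst hχ
    exact Or.inr (Or.inr ⟨indB_one h φ, fun a b hab => indB_transl h φ hab, fun g hg => indB_nofix h φ hg⟩)

end Cfsg.Agent.Lib.SuzukiChars
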