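import Mathlib
import Cfsg.Agent.Lib.SuzukiChars.Sums
import Cfsg.Agent.Lib.Chars.Induced

/-! Restriction of characters to the cyclic members. -/

set_option autoImplicit false

namespace Cfsg.Agent.Lib.SuzukiChars

open Cfsg.Agent.Lib Cfsg.Agent.Lib.Suzuki Cfsg.Agent.Lib.SuzukiSubgroups Cfsg.Agent.Lib.SuzukiSolv
open scoped ComplexConjugate

variable {F : Type*} [Field F] [Fintype F] {m : ℕ} (h : Hyp F m)

open Classical in
/-- The squared absolute values of a function summed over the nontrivial elements of a subgroup. -/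
noncomputable def esum [Fintype (Cfsg.Sz F m)] (U : Subgroup (Cfsg.Sz F m)) (f : Cfsg.Sz F m → ℂ) : ℝ :=
  ∑ g : Cfsg.Sz F m, if g ∈ U ∧ g ≠ 1 then Complex.normSq (f g) else 0

theorem esum_nonneg [Fintype (Cfsg.Sz F m)] (U : Subgroup (Cfsg.Sz F m)) (f : Cfsg.Sz F m → ℂ) :
    0 ≤ esum U f := by
  classical
  exact Finset.sum_nonneg fun g _ => by split_ifs <;> simp [Complex.normSq_nonneg]

include h
variable [Fintype (Cfsg.Sz F m)]

theorem punc_normSq (U : Subgroup (Cfsg.Sz F m)) (f : Cfsg.Sz F m → ℂ) :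
    punc U (fun g => f g * conj (f g)) = (esum U f : ℂ) := by
  classical
  rw [punc, esum, Complex.ofReal_sum]
  exact Finset.sum_congr rfl fun g _ => by split_ifs <;> simp [Complex.mul_conj]

/-- Integer coordinates of a character on a cyclic member, shifted by the regular character. -/
theorem coords {U : Subgroup (Cfsg.Sz F m)} (hU : CycU h U) (χ : Cfsg.IrrCharacter (Cfsg.Sz F m))
    [Fintype (Cfsg.IrrCharacter U)] {N : ℕ} (hN : (χ : Cfsg.Sz F m → ℂ) 1 = N) {ρ : ℤ}
    (hρ : (Nat.card U : ℤ) ∣ (N : ℤ) - ρ) :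
    ∃ x : Cfsg.IrrCharacter U → ℤ, ∑ l, x l = ρ ∧
      (Nat.card U : ℝ) * (∑ l, (x l : ℝ) ^ 2) = esum U (χ : Cfsg.Sz F m → ℂ) + (ρ : ℝ) ^ 2 ∧
      (∀ l, x (Chars.irrConj l) = x l) ∧
      ∀ (y : Cfsg.Sz F m) (hy : ∀ u, u ∈ U ↔ y * u * y⁻¹ ∈ U) (l l' : Cfsg.IrrCharacter U),
        (∀ u : U, (l' : U → ℂ) u = (l : U → ℂ) ⟨y * u * y⁻¹, (hy u).1 u.2⟩) → x l' = x l := by
  classical
  have := SuzukiSylow.finite_Sz h
  haveI : IsMulCommutative U := ⟨⟨fun a b => Subtype.ext (cyc_comm h hU a.2 b.2)⟩⟩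
  set f := (χ : Cfsg.Sz F m → ℂ) with hf
  have hres := Chars.isCharacter_restrict U (Chars.irr_isCharacter χ)
  obtain ⟨M, hM⟩ := Chars.isCharacter_exists_nat_decomp hres
  have hM' : ∀ u : U, f u = ∑ l : Cfsg.IrrCharacter U, (M l : ℂ) * (l : U → ℂ) u := fun u =>
    (congrFun hM u).trans (by simp; congr!)
  have hcoef : ∀ l : Cfsg.IrrCharacter U, Cfsg.classInner (fun u : U => f u) (l : U → ℂ) = (M l : ℂ) := by
    intro l
    rw [hM]
    convert Chars.classInner_sum_smul_irr (fun l => (M l : ℂ)) l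
  have h1 : ∀ l : Cfsg.IrrCharacter U, (l : U → ℂ) 1 = 1 := Chars.irr_apply_one_of_comm
  have hsum : ((∑ l, M l : ℕ) : ℂ) = N := by
    rw [← hN, show (1 : Cfsg.Sz F m) = ((1 : U) : Cfsg.Sz F m) from rfl, hM']
    simp [h1]
  have hcardI : Fintype.card (Cfsg.IrrCharacter U) = Nat.card U := by
    have := Chars.sum_degree_sq (G := U)
    simp only [h1, one_pow, Finset.sum_const, Finset.card_univ, nsmul_eq_mul, mul_one] at this
    convert (Nat.cast_inj.1 this) using 2
  obtain ⟨k, hk⟩ := hρ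
  have hn0 : (Nat.card U : ℂ) ≠ 0 := Nat.cast_ne_zero.2 Nat.card_pos.ne'
  have hsumN : ∑ l, M l = N := by exact_mod_cast hsum
  refine ⟨fun l => (M l : ℤ) - k, ?_, ?_, ?_, ?_⟩
  · rw [Finset.sum_sub_distrib, ← Nat.cast_sum, hsumN, Finset.sum_const, Finset.card_univ, hcardI, nsmul_eq_mul]
    linear_combination hk
  · have hnorm : Cfsg.classInner (fun u : U => f u) (fun u : U => f u) = ((∑ l, M l ^ 2 : ℕ) : ℂ) := by
      rw [hM]
      convert Chars.classInner_sum_smul_sum_smul (fun l : Cfsg.IrrCharacter U => (M l : ℂ)) (fun l => (M l : ℂ)) using 1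
      push_cast
      exact Finset.sum_congr (by congr!) fun l _ => by simp [sq]
    rw [Cfsg.classInner, inv_mul_eq_iff_eq_mul₀ hn0] at hnorm
    have hp := punc_eq h U (fun g => f g * conj (f g))
    rw [punc_normSq h, hnorm, hN, Complex.conj_natCast] at hp
    have hp' : esum U f = (Nat.card U : ℝ) * ((∑ l, M l ^ 2 : ℕ) : ℝ) - (N : ℝ) * N := by
      have : ((esum U f : ℝ) : ℂ) = (((Nat.card U : ℝ) * ((∑ l, M l ^ 2 : ℕ) : ℝ) - (N : ℝ) * N : ℝ) : ℂ) := by
        rw [hp]; push_cast; ring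
      exact_mod_cast this
    have hk' : (N : ℝ) - ρ = (Nat.card U : ℝ) * k := by exact_mod_cast hk
    have hexp : ∑ l : Cfsg.IrrCharacter U, (((M l : ℤ) - k : ℤ) : ℝ) ^ 2 =
        ((∑ l, M l ^ 2 : ℕ) : ℝ) - 2 * k * ((∑ l, M l : ℕ) : ℝ) + (Nat.card U : ℝ) * (k : ℝ) ^ 2 := by
      push_cast
      rw [← hcardI, Finset.sum_congr rfl fun l _ => show ((M l : ℝ) - k) ^ 2 = (M l : ℝ) ^ 2 - 2 * k * M l + k ^ 2 by ring,
        Finset.sum_add_distrib, Finset.sum_sub_distrib, ← Finset.mul_sum, Finset.sum_const, Finset.card_univ,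
        nsmul_eq_mul]
    rw [hexp, hsumN, hp']
    linear_combination ((N : ℝ) - (Nat.card U : ℝ) * k + ρ) * hk'
  · intro l
    simp only [sub_left_inj, Nat.cast_inj]
    have hreal : ∀ u : U, conj (f u) = f u := fun u => by
      rw [← Chars.irr_inv χ]
      rcases eq_or_ne (u : Cfsg.Sz F m) 1 with e | e
      · rw [e, inv_one, ← hf, hN]
      · exact (Chars.isClassFunction_apply_eq (Chars.irr_isClassFunction χ)
          (S2457.isConj_inv h ⟨e, U, hU, u.2⟩))
    have hconj : conj (M l : ℂ) = (M (Chars.irrConj l) : ℂ) := by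
      rw [← hcoef, ← hcoef, Cfsg.classInner, Cfsg.classInner, map_mul, map_inv₀, Complex.conj_natCast, map_sum]
      congr 1
      refine Finset.sum_congr rfl fun u _ => ?_
      rw [map_mul, hreal, Chars.irrConj_apply]
    rw [Complex.conj_natCast] at hconj
    exact_mod_cast hconj.symm
  · intro y hy l l' hl
    simp only [sub_left_inj, Nat.cast_inj]
    let e : U ≃ U :=
      { toFun := fun u => ⟨y * u * y⁻¹, (hy u).1 u.2⟩
        invFun := fun u => ⟨y⁻¹ * u * y, (hy _).2 (by simp [mul_assoc])⟩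
        left_inv := fun u => Subtype.ext (by simp [mul_assoc])
        right_inv := fun u => Subtype.ext (by simp [mul_assoc]) }
    have : (M l' : ℂ) = (M l : ℂ) := by
      rw [← hcoef, ← hcoef, Cfsg.classInner, Cfsg.classInner]
      congr 1
      refine Fintype.sum_equiv e _ _ fun u => ?_
      show f u * conj ((l' : U → ℂ) u) = f ((e u : U) : Cfsg.Sz F m) * _
      rw [hl, show ((e u : U) : Cfsg.Sz F m) = y * u * y⁻¹ from rfl, hf, Chars.irr_isClassFunction χ]
      rfl
    exact_mod_cast this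

/-- The basic lower bound. -/
theorem esum_ge {U : Subgroup (Cfsg.Sz F m)} (hU : CycU h U) (χ : Cfsg.IrrCharacter (Cfsg.Sz F m))
    {N : ℕ} (hN : (χ : Cfsg.Sz F m → ℂ) 1 = N) {ρ : ℤ} (hρ : (Nat.card U : ℤ) ∣ (N : ℤ) - ρ) :
    (Nat.card U : ℝ) * |(ρ : ℝ)| - (ρ : ℝ) ^ 2 ≤ esum U (χ : Cfsg.Sz F m → ℂ) := by
  classical
  have : Finite U := Finite.of_fintype U
  let _ := Fintype.ofFinite (Cfsg.IrrCharacter U)
  obtain ⟨x, hx, hsq, -, -⟩ := coords h hU χ hN hρ
  have h1 : |(ρ : ℝ)| ≤ ∑ l, (x l : ℝ) ^ 2 := by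
    rw [← hx, Int.cast_sum]
    refine (Finset.abs_sum_le_sum_abs _ _).trans (Finset.sum_le_sum fun l _ => ?_)
    have : |x l| ≤ x l ^ 2 := by
      rw [← sq_abs (x l)]
      exact Int.le_self_sq _
    exact_mod_cast this
  have := mul_le_mul_of_nonneg_left h1 (Nat.cast_nonneg (Nat.card U) : (0 : ℝ) ≤ Nat.card U)
  linarith

/-- The refinement for the value 2. -/
theorem esum_ge_two {U : Subgroup (Cfsg.Sz F m)} (hU : CycU h U)
    (hNU : Nat.card (Subgroup.normalizer (U : Set (Cfsg.Sz F m))) = 4 * Nat.card U)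
    (χ : Cfsg.IrrCharacter (Cfsg.Sz F m))
    {N : ℕ} (hN : (χ : Cfsg.Sz F m → ℂ) 1 = N) {ρ : ℤ} (hρ : (Nat.card U : ℤ) ∣ (N : ℤ) - ρ) (hρ2 : |ρ| = 2) :
    4 * (Nat.card U : ℝ) - 4 ≤ esum U (χ : Cfsg.Sz F m → ℂ) := by
  classical
  have : Finite U := Finite.of_fintype U
  have := SuzukiSylow.finite_Sz h
  let _ := Fintype.ofFinite (Cfsg.IrrCharacter U)
  obtain ⟨x, hx, hsq, hconj, hinv⟩ := coords h hU χ hN hρ
  have key : 4 ≤ ∑ l, x l ^ 2 := by
    by_cases hall : ∀ l, l ≠ Chars.trivialIrr U → x l = 0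
    · rw [Finset.sum_eq_single (Chars.trivialIrr U) (fun l _ hl => hall l hl) (by simp)] at hx
      refine le_trans ?_ (Finset.single_le_sum (f := fun l => x l ^ 2) (fun l _ => sq_nonneg _)
        (Finset.mem_univ (Chars.trivialIrr U)))
      rw [← sq_abs, hx, hρ2]
      norm_num
    push Not at hall
    obtain ⟨l, hl, hxl⟩ := hall
    obtain ⟨y, hyN, hy4⟩ : ∃ y, y ∈ Subgroup.normalizer (U : Set (Cfsg.Sz F m)) ∧ orderOf y = 4 := by
      have e := card_four_normalizer h hU
      rw [hNU] at e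
      have : 0 < Nat.card U := Nat.card_pos
      exact Set.nonempty_of_ncard_ne_zero (s := {t | t ∈ Subgroup.normalizer (U : Set (Cfsg.Sz F m)) ∧ orderOf t = 4})
        (by omega)
    have hy : ∀ u, u ∈ U ↔ y * u * y⁻¹ ∈ U := Subgroup.mem_normalizer_iff.1 hyN
    let e : U ≃* U :=
      { toFun := fun u => ⟨y * u * y⁻¹, (hy u).1 u.2⟩
        invFun := fun u => ⟨y⁻¹ * u * y, (hy _).2 (by simp [mul_assoc])⟩
        left_inv := fun u => Subtype.ext (by simp [mul_assoc])
        right_inv := fun u => Subtype.ext (by simp [mul_assoc])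
        map_mul' := fun u v => Subtype.ext (by simp [mul_assoc]) }
    let μ : Cfsg.IrrCharacter U := ⟨fun u => (l : U → ℂ) (e u), Chars.isIrrCharacter_comp_mulEquiv e l.2⟩
    have hμ : ∀ u : U, (μ : U → ℂ) u = (l : U → ℂ) ⟨y * u * y⁻¹, (hy u).1 u.2⟩ := fun u => rfl
    have hxμ : x μ = x l := hinv y hy l μ hμ
    have hyy : ∀ u : U, (l : U → ℂ) (e (e u)) = conj ((l : U → ℂ) u) := by
      intro u
      rw [← Chars.irr_inv l]
      refine congrArg _ (Subtype.ext ?_)
      have hi : (y * y) * (y * y) = 1 := by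
        have h4' := pow_orderOf_eq_one y
        rw [hy4] at h4'
        simpa [pow_succ, mul_assoc] using h4'
      have hi1 : y * y ≠ 1 := fun e1 => by
        have := orderOf_dvd_of_pow_eq_one (x := y) (n := 2) (by rw [sq]; exact e1)
        rw [hy4] at this; norm_num at this
      have := invol_inverts h hU hi hi1 (mul_mem hyN hyN) u.2
      show y * (y * u * y⁻¹) * y⁻¹ = (u : Cfsg.Sz F m)⁻¹
      rw [← this]
      nth_rw 2 [show y * y = (y * y)⁻¹ from (inv_eq_of_mul_eq_one_right hi).symm]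
      simp only [mul_inv_rev, mul_assoc]
    have hne : Chars.irrConj l ≠ l := by
      intro e1
      haveI : IsMulCommutative U := ⟨⟨fun a b => Subtype.ext (cyc_comm h hU a.2 b.2)⟩⟩
      refine hl (Subtype.ext (funext fun u => ?_))
      obtain ⟨φ, hφ⟩ := Chars.exists_hom_of_degree_one (Chars.irr_isCharacter l) (Chars.irr_apply_one_of_comm l)
      have hreal : conj (φ u : ℂ) = (φ u : ℂ) := by
        have := congrFun (congrArg Subtype.val e1) u
        rwa [Chars.irrConj_apply, hφ] at this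
      have h2 : (φ u) ^ 2 = 1 := by
        refine Units.ext ?_
        rw [Units.val_pow_eq_pow_val, Units.val_one, sq]
        nth_rw 2 [← hreal]
        rw [Complex.mul_conj, Complex.normSq_eq_norm_sq, Chars.norm_hom_apply]
        norm_num
      obtain ⟨j, hj⟩ := exists_pow_eq_self_of_coprime (x := u) (n := 2)
        (Nat.coprime_two_left.2 (by
          rw [← Subgroup.orderOf_coe]
          exact (odd_card_cyc h hU).of_dvd_nat (Subgroup.orderOf_dvd_natCard U u.2)))
      rw [hφ, Chars.trivialIrr_apply]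
      show (φ u : ℂ) = 1
      rw [← hj, map_pow, map_pow, h2, one_pow, Units.val_one]
    have hμne : Chars.irrConj μ ≠ μ := fun e1 => hne (Subtype.ext (funext fun u => by
      have := congrFun (congrArg Subtype.val e1) (e.symm u)
      rw [Chars.irrConj_apply] at this ⊢
      simpa [μ] using this))
    have h12 : μ ≠ l := fun e1 => hne (Subtype.ext (funext fun u => by
      have a1 := congrFun (congrArg Subtype.val e1) u
      have a2 := congrFun (congrArg Subtype.val e1) (e u)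
      rw [Chars.irrConj_apply, ← hyy u]
      exact a2.trans a1))
    have h13 : μ ≠ Chars.irrConj l := fun e1 => hne (Subtype.ext (funext fun u => by
      have a1 : ∀ v, (l : U → ℂ) (e v) = conj ((l : U → ℂ) v) := fun v => congrFun (congrArg Subtype.val e1) v
      have a2 := hyy u
      rw [a1, a1, Complex.conj_conj] at a2
      rw [Chars.irrConj_apply]
      exact a2.symm))
    have h14 : Chars.irrConj μ ≠ l := fun e1 => h13 (by
      have := congrArg Chars.irrConj e1
      rwa [show Chars.irrConj (Chars.irrConj μ) = μ from Subtype.ext (funext fun u => by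
        rw [Chars.irrConj_apply, Chars.irrConj_apply, Complex.conj_conj])] at this)
    have h15 : Chars.irrConj μ ≠ Chars.irrConj l := fun e1 => h12 (Chars.irrConj.injective e1)
    have h4 : ∑ v ∈ ({l, Chars.irrConj l, μ, Chars.irrConj μ} : Finset (Cfsg.IrrCharacter U)), x v ^ 2 = 4 * x l ^ 2 := by
      rw [Finset.sum_insert (by simp [hne.symm, h12.symm, h14.symm]),
        Finset.sum_insert (by simp [h13.symm, h15.symm]), Finset.sum_pair hμne.symm, hconj, hconj, hxμ]
      ring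
    refine le_trans ?_ (Finset.sum_le_sum_of_subset_of_nonneg (Finset.subset_univ
      ({l, Chars.irrConj l, μ, Chars.irrConj μ} : Finset (Cfsg.IrrCharacter U))) fun v _ _ => sq_nonneg (x v))
    rw [h4]
    have : 0 < x l ^ 2 := lt_of_le_of_ne (sq_nonneg _) (Ne.symm (pow_ne_zero 2 hxl))
    omega
  have key' : (4 : ℝ) ≤ ∑ l, (x l : ℝ) ^ 2 := by exact_mod_cast key
  have h2 : (ρ : ℝ) ^ 2 = 4 := by
    have : ρ ^ 2 = 4 := by rw [← sq_abs, hρ2]; norm_num
    exact_mod_cast this
  nlinarith [mul_le_mul_of_nonneg_left key' (Nat.cast_nonneg (Nat.card U) : (0 : ℝ) ≤ Nat.card U)]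

end Cfsg.Agent.Lib.SuzukiChars
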