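import Mathlib
import Cfsg.Agent.Lib.SuzukiChars.Sums
import Cfsg.Agent.Lib.Blocks.DefectTwo

/-! Restriction of characters to a Sylow 2-subgroup of the Suzuki group. -/

set_option autoImplicit false

namespace Cfsg.Agent.Lib.SuzukiChars

open Cfsg.Agent.Lib Cfsg.Agent.Lib.Suzuki Cfsg.Agent.Lib.SuzukiSubgroups Cfsg.Agent.Lib.SuzukiSolv
open Cfsg.Agent.S2337 (psi psi_apply psi_theta psi_sq psi_sum one_notMem)
open scoped ComplexConjugate

theorem two_squares : ∀ (k : ℕ) (A B : ℤ), A ^ 2 + B ^ 2 = 2 ^ (2 * k + 1) →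
    A.natAbs = 2 ^ k ∧ B.natAbs = 2 ^ k := by
  intro k
  induction k with
  | zero =>
    intro A B e
    norm_num at e
    have hA : A.natAbs ≤ 1 := by
      by_contra hc
      push Not at hc
      have : (2 : ℤ) ≤ (A.natAbs : ℤ) := by exact_mod_cast hc
      nlinarith [Int.natAbs_sq A, sq_nonneg B]
    have hB : B.natAbs ≤ 1 := by
      by_contra hc
      push Not at hc
      have : (2 : ℤ) ≤ (B.natAbs : ℤ) := by exact_mod_cast hc
      nlinarith [Int.natAbs_sq B, sq_nonneg A]
    have eA := Int.natAbs_sq A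
    have eB := Int.natAbs_sq B
    interval_cases hA' : A.natAbs <;> interval_cases hB' : B.natAbs <;> simp_all <;> omega
  | succ k ih =>
    intro A B e
    have hp : (2 : ℤ) ^ (2 * (k + 1) + 1) = 4 * 2 ^ (2 * k + 1) := by ring
    rw [hp] at e
    obtain ⟨A', hA⟩ | ⟨A', hA⟩ := Int.even_or_odd A <;> obtain ⟨B', hB⟩ | ⟨B', hB⟩ := Int.even_or_odd B
    · have e' : A' ^ 2 + B' ^ 2 = 2 ^ (2 * k + 1) := by rw [hA, hB] at e; linarith
      obtain ⟨i1, i2⟩ := ih A' B' e'
      rw [hA, hB, pow_succ]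
      omega
    all_goals
      exfalso
      rw [hA, hB] at e
      ring_nf at e
      omega

theorem gaussian {G : Type*} [Group G] [Finite G] {χ : G → ℂ} (hχ : Cfsg.IsCharacter G χ) {g : G}
    (hg : g ^ 4 = 1) : ∃ A B : ℤ, χ g = A + B * Complex.I := by
  obtain ⟨n, ρ, rfl⟩ := hχ
  obtain ⟨ι, _, μ, -, hm, h1, -⟩ := Chars.exists_roots_sum ρ g
  rw [h1]
  refine Finset.sum_induction μ (fun z => ∃ A B : ℤ, z = A + B * Complex.I)
    (fun x y ⟨A, B, hx⟩ ⟨A', B', hy⟩ => ⟨A + A', B + B', by rw [hx, hy]; push_cast; ring⟩)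
    ⟨0, 0, by simp⟩ fun i _ => ?_
  have h4 : μ i ^ 4 = 1 := by
    obtain ⟨c, hc⟩ := orderOf_dvd_of_pow_eq_one hg
    rw [hc, pow_mul, hm i, one_pow]
  have : (μ i - 1) * (μ i + 1) * (μ i - Complex.I) * (μ i + Complex.I) = 0 := by
    linear_combination h4 - (μ i ^ 2 - 1) * Complex.I_mul_I
  simp only [mul_eq_zero, sub_eq_zero, add_eq_zero_iff_eq_neg] at this
  rcases this with ((e | e) | e) | e
  · exact ⟨1, 0, by rw [e]; simp⟩
  · exact ⟨-1, 0, by rw [e]; simp⟩
  · exact ⟨0, 1, by rw [e]; simp⟩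
  · exact ⟨0, -1, by rw [e]; simp⟩

variable {F : Type*} [Field F] [Fintype F] {m : ℕ} (h : Hyp F m)
include h

theorem card_field_eq : (Fintype.card F : ℤ) = 2 ^ (2 * m + 1) := by rw [h.hF]; push_cast; ring

theorem exists_commutator_sign {a : F} (ha0 : a ≠ 0) (ha1 : a ≠ 1) :
    ∃ c, psi h (theta m a * c + theta m c * a) = -1 := by
  classical
  by_contra hn
  push Not at hn
  obtain ⟨v, hv⟩ := h.theta_surjective a
  have h0 : theta m a + v = 0 := by
    by_contra h0
    have e := psi_sum h (theta m a + v)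
    have e' : ∀ c : F, psi h ((theta m a + v) * c) = 1 := by
      intro c
      have := (S2457.psi_pm h _).resolve_right (hn c)
      rw [AddChar.map_add_eq_mul, ← hv, ← theta_mul, psi_theta, hv] at this
      rw [add_mul, AddChar.map_add_eq_mul, mul_comm v c]
      exact this
    simp only [e', if_neg h0, Finset.sum_const, Finset.card_univ, nsmul_eq_mul, mul_one] at e
    exact Fintype.card_ne_zero (Nat.cast_eq_zero.1 e)
  have hv' : v = theta m a := by linear_combination h0 - theta m a * h.two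
  rw [hv', h.theta_theta] at hv
  rcases S2337.eq_zero_or_one hv with e | e
  · exact ha0 e
  · exact ha1 e

variable [Fintype (Cfsg.Sz F m)]

theorem transl_center (β : F) :
    translEquiv h (0, β) ∈ Subgroup.center (transl h) :=
  (center_transl h).2 ⟨β, translEquiv_apply h (0, β)⟩

open Classical in
theorem theta_cases (θ : Cfsg.IrrCharacter (transl h)) :
    ∃ (k : ℕ) (t : ℤ), (2 : ℤ) ∣ (k : ℤ) - t ∧
      ∑ β : F, (θ : transl h → ℂ) (translEquiv h (0, β)) * psi h β = (Fintype.card F : ℂ) * 2 ^ m * k ∧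
      ∑ β : F, (θ : transl h → ℂ) (translEquiv h (1, β)) * psi h β =
        (Fintype.card F : ℂ) * 2 ^ m * t * Complex.I := by
  set f := (θ : transl h → ℂ) with hf
  set T : F → F → transl h := fun a b => translEquiv h (a, b) with hT
  have hmul : ∀ a b c d, T a b * T c d = T (a + c) (b + d + theta m a * c) := fun a b c d => by
    refine Subtype.ext ?_
    simp only [hT, Subgroup.coe_mul, translEquiv_apply, szT_mul]
  have h10 : f (T 0 0) = f 1 := by
    congr 1
    refine Subtype.ext ?_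
    simp [hT, translEquiv_apply, szT_one]
  have hd1 : f 1 ≠ 0 := Chars.irr_apply_one_ne_zero θ
  set ω : F → ℂ := fun β => f (T 0 β) / f 1 with hω
  have hcent : ∀ (β : F) (g : transl h), f (T 0 β * g) = ω β * f g := fun β g =>
    Blocks.DefectTwo.irr_central_mul θ (transl_center h β) g
  have hωadd : ∀ β β', ω (β + β') = ω β * ω β' := fun β β' => by
    have := hcent β (T 0 β')
    rw [hmul, add_zero, theta_zero, zero_mul, add_zero] at this
    simp only [hω] at this ⊢
    rw [this]; field_simp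
  have hω0 : ω 0 = 1 := by simp only [hω]; rw [h10, div_self hd1]
  have hrow0 : ∀ β, f (T 0 β) = ω β * f 1 := fun β => (div_mul_cancel₀ _ hd1).symm
  have hrow1 : ∀ β, f (T 1 β) = ω β * f (T 1 0) := fun β => by
    rw [← hcent, hmul, zero_add, add_zero, theta_zero, zero_mul, add_zero]
  by_cases hpsi : ∀ β, ω β = psi h β
  · have hvan : ∀ a b, a ≠ 0 → a ≠ 1 → f (T a b) = 0 := by
      intro a b ha0 ha1
      obtain ⟨c, hc⟩ := exists_commutator_sign h ha0 ha1
      set z := theta m a * c + theta m c * a with hz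
      have e : T c 0 * T a b * (T c 0)⁻¹ = T 0 z * T a b := by
        rw [mul_inv_eq_iff_eq_mul, hmul, hmul, hmul, theta_zero, zero_mul, add_zero, zero_add, zero_add, add_zero,
          add_comm c a]
        congr 1
        rw [hz]; linear_combination -(theta m a * c) * h.two
      have e1 := Chars.irr_isClassFunction θ (T a b) (T c 0)
      rw [← hf, e, hcent, hpsi, hc] at e1
      linear_combination (-1 / 2 : ℂ) * e1
    set t := f (T 1 0) with ht
    have hinv : (T 1 0)⁻¹ = T 0 1 * T 1 0 := by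
      refine inv_eq_of_mul_eq_one_right ?_
      rw [hmul, hmul, theta_zero, theta_one]
      refine Subtype.ext ?_
      simp [hT, translEquiv_apply, h.add_self, szT_one]
    have hconj : conj t = -t := by
      rw [ht, ← Chars.irr_inv θ, ← hf, hinv, hcent, hpsi, S2457.psi_one]; ring
    obtain ⟨A, B, hAB⟩ := gaussian (Chars.irr_isCharacter θ) (g := T 1 0) (by
      rw [pow_succ, pow_succ, pow_succ, pow_one, hmul, hmul, hmul]
      refine Subtype.ext ?_
      simp [hT, translEquiv_apply, h.add_self, theta_zero, szT_one])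
    rw [← hf, ← ht] at hAB
    have hA : A = 0 := by
      have h1 := congrArg Complex.re hconj
      rw [hAB] at h1
      simp at h1
      exact_mod_cast (by linarith : (A : ℝ) = 0)
    obtain ⟨D, hD0, hD⟩ := Chars.isIrrCharacter_exists_degree_pos θ.2
    rw [← hf] at hD
    have hnorm : f 1 * conj (f 1) + t * conj t = (Fintype.card F : ℂ) := by
      have h1 := Chars.classInner_irr_self θ
      rw [← hf, Cfsg.classInner, inv_mul_eq_one₀ (Chars.natCard_ne_zero (G := transl h))] at h1
      rw [← Fintype.sum_equiv (translEquiv h) (fun p => f (T p.1 p.2) * conj (f (T p.1 p.2))) _ fun p => rfl,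
        Fintype.sum_prod_type, card_transl] at h1
      rw [← Finset.add_sum_erase _ _ (Finset.mem_univ (0 : F)),
        ← Finset.add_sum_erase _ _ (Finset.mem_erase.2 ⟨one_ne_zero, Finset.mem_univ (1 : F)⟩),
        Finset.sum_eq_zero fun a ha => Finset.sum_eq_zero fun b _ => by
          obtain ⟨ha1, ha0⟩ := by simpa [Finset.mem_erase] using ha
          simp only [hvan a b ha0 ha1, zero_mul]] at h1
      have hsq : ∀ (β : F) (z : ℂ), (ω β * z) * conj (ω β * z) = z * conj z := fun β z => by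
        rw [hpsi, map_mul, mul_mul_mul_comm]
        rcases S2457.psi_pm h β with e | e <;> rw [e] <;> simp
      simp only [hrow0, hrow1, hsq, Finset.sum_const, Finset.card_univ, nsmul_eq_mul, add_zero] at h1
      push_cast at h1
      have hq : (Fintype.card F : ℂ) ≠ 0 := Nat.cast_ne_zero.2 Fintype.card_ne_zero
      exact mul_left_cancel₀ hq (by linear_combination -h1)
    rw [hconj, hAB, hA, hD, Complex.conj_natCast] at hnorm
    have hDB : ((D : ℤ)) ^ 2 + B ^ 2 = 2 ^ (2 * m + 1) := by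
      rw [← card_field_eq h]
      have : (((D : ℤ) ^ 2 + B ^ 2 : ℤ) : ℂ) = ((Fintype.card F : ℤ) : ℂ) := by
        push_cast at hnorm ⊢
        linear_combination hnorm + (B : ℂ) ^ 2 * Complex.I_mul_I
      exact_mod_cast this
    obtain ⟨hD', hB⟩ := two_squares m _ _ hDB
    have hD2 : D = 2 ^ m := by simpa using hD'
    obtain ⟨ε, hε, hε'⟩ : ∃ ε : ℤ, B = ε * 2 ^ m ∧ (2 : ℤ) ∣ 1 - ε := by
      rcases Int.natAbs_eq B with e | e <;> rw [hB] at e
      · exact ⟨1, by rw [e]; push_cast; ring, by norm_num⟩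
      · exact ⟨-1, by rw [e]; push_cast; ring, by norm_num⟩
    refine ⟨1, ε, by simpa using hε', ?_, ?_⟩
    · rw [Finset.sum_congr rfl fun β _ => show f (T 0 β) * psi h β = f 1 by
        rw [hrow0, hpsi, mul_right_comm, psi_sq, one_mul], Finset.sum_const, Finset.card_univ, nsmul_eq_mul,
        hD, hD2]
      push_cast; ring
    · rw [Finset.sum_congr rfl fun β _ => show f (T 1 β) * psi h β = t by
        rw [hrow1, hpsi, mul_right_comm, psi_sq, one_mul], Finset.sum_const, Finset.card_univ, nsmul_eq_mul,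
        hAB, hA, hε]
      push_cast; ring
  · push Not at hpsi
    obtain ⟨β₀, hβ₀⟩ := hpsi
    have hS : ∑ β : F, ω β * psi h β = 0 := by
      have hne : ω β₀ * psi h β₀ ≠ 1 := fun e => hβ₀ (by
        calc ω β₀ = ω β₀ * (psi h β₀ * psi h β₀) := by rw [psi_sq, mul_one]
          _ = psi h β₀ := by rw [← mul_assoc, e, one_mul])
      have e : (ω β₀ * psi h β₀) * ∑ β : F, ω β * psi h β = ∑ β : F, ω β * psi h β := by
        rw [Finset.mul_sum]
        refine Fintype.sum_equiv (Equiv.addLeft β₀) _ _ fun β => ?_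
        simp only [Equiv.coe_addLeft, hωadd, AddChar.map_add_eq_mul]
        ring
      exact (mul_eq_zero.1 (show (ω β₀ * psi h β₀ - 1) * ∑ β : F, ω β * psi h β = 0 by
        linear_combination e)).resolve_left (sub_ne_zero.2 hne)
    refine ⟨0, 0, by simp, ?_, ?_⟩
    · rw [Finset.sum_congr rfl fun β _ => show f (T 0 β) * psi h β = f 1 * (ω β * psi h β) by
        rw [hrow0]; ring, ← Finset.mul_sum, hS]
      simp
    · rw [Finset.sum_congr rfl fun β _ => show f (T 1 β) * psi h β = f (T 1 0) * (ω β * psi h β) by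
        rw [hrow1]; ring, ← Finset.mul_sum, hS]
      simp

/-- The linear character given by the first coordinate. -/
noncomputable def lam1 : transl h →* ℂˣ :=
  (AddChar.toMonoidHom (psi h)).toHomUnits.comp (translFst h)

theorem lam1_apply (p : F × F) : ((lam1 h (translEquiv h p) : ℂˣ) : ℂ) = psi h p.1 := by
  show psi h (Multiplicative.toAdd (translFst h (translEquiv h p))) = _
  rw [translFst_apply h (translEquiv_apply h p)]
  rfl

open Classical in
/-- The parameters of a character on the elements of even order. -/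
theorem params (χ : Cfsg.IrrCharacter (Cfsg.Sz F m)) :
    ∃ (a b e : ℕ) (Δ : ℤ), (2 : ℤ) ∣ (e : ℤ) - Δ ∧
      (χ : Cfsg.Sz F m → ℂ) 1 = (a : ℂ) + ((Fintype.card F : ℂ) - 1) * b + ((Fintype.card F : ℂ) - 1) * 2 ^ m * e ∧
      (χ : Cfsg.Sz F m → ℂ) (szT h 0 1) = (a : ℂ) + ((Fintype.card F : ℂ) - 1) * b - 2 ^ m * e ∧
      (χ : Cfsg.Sz F m → ℂ) (szT h 1 0) = (a : ℂ) - b + 2 ^ m * (Δ : ℂ) * Complex.I ∧
      (χ : Cfsg.Sz F m → ℂ) (szT h 1 1) = (a : ℂ) - b - 2 ^ m * (Δ : ℂ) * Complex.I ∧
      (∑ p : F × F, (χ : Cfsg.Sz F m → ℂ) (szT h p.1 p.2)) = (Fintype.card F : ℂ) ^ 2 * a := by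
  have hcl := Chars.irr_isClassFunction χ
  obtain ⟨hz, hfour⟩ := transl_value h hcl
  set f := (χ : Cfsg.Sz F m → ℂ) with hf
  set q := (Fintype.card F : ℂ) with hqdef
  have hq : q ≠ 0 := Nat.cast_ne_zero.2 Fintype.card_ne_zero
  have hres := Chars.isCharacter_restrict (transl h) (Chars.irr_isCharacter χ)
  obtain ⟨a, ha⟩ := Chars.isCharacter_classInner_nat hres (Chars.irr_isCharacter (Chars.trivialIrr (transl h)))
  obtain ⟨b, hb⟩ := Chars.isCharacter_classInner_nat hres (Chars.isCharacter_hom (lam1 h))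
  have hcard : (Nat.card (transl h) : ℂ) = q ^ 2 := by rw [card_transl]; push_cast; rfl
  rw [Cfsg.classInner, inv_mul_eq_iff_eq_mul₀ (by rw [hcard]; exact pow_ne_zero 2 hq), hcard] at ha hb
  have hS : ∑ p : F × F, f (szT h p.1 p.2) = q ^ 2 * a := by
    rw [← ha, Fintype.sum_equiv (translEquiv h) (fun p => f (szT h p.1 p.2))
      (fun x : transl h => f x * conj ((Chars.trivialIrr (transl h) : transl h → ℂ) x)) fun p => by
        simp [translEquiv_apply]]
  have hS' : ∑ p : F × F, psi h p.1 * f (szT h p.1 p.2) = q ^ 2 * b := by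
    rw [← hb, Fintype.sum_equiv (translEquiv h) (fun p => psi h p.1 * f (szT h p.1 p.2))
      (fun x : transl h => f x * conj ((lam1 h x : ℂˣ) : ℂ)) fun p => by
        rw [lam1_apply, translEquiv_apply]
        rcases S2457.psi_pm h p.1 with e | e <;> rw [e] <;> simp]
  obtain ⟨M, hM⟩ := Chars.isCharacter_exists_nat_decomp hres
  have hdec : ∀ x : transl h, f x = ∑ θ : Cfsg.IrrCharacter (transl h), (M θ : ℂ) * (θ : transl h → ℂ) x :=
    fun x => (congrFun hM x).trans (by simp)
  have hdec' : ∀ a b : F, f (szT h a b) =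
      ∑ θ : Cfsg.IrrCharacter (transl h), (M θ : ℂ) * (θ : transl h → ℂ) (translEquiv h (a, b)) := fun a b =>
    hdec (translEquiv h (a, b))
  choose K T hKT hK hT using theta_cases h
  have hsum0 : ∑ β : F, f (szT h 0 β) * psi h β = q * 2 ^ m * ((∑ θ, M θ * K θ : ℕ) : ℂ) := by
    rw [Finset.sum_congr rfl fun β _ => show f (szT h 0 β) * psi h β =
      ∑ θ : Cfsg.IrrCharacter (transl h), (M θ : ℂ) * ((θ : transl h → ℂ) (translEquiv h (0, β)) * psi h β) by
        rw [hdec', Finset.sum_mul]; simp [mul_assoc], Finset.sum_comm]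
    simp only [← Finset.mul_sum, hK]
    push_cast
    rw [Finset.mul_sum]
    exact Finset.sum_congr rfl fun θ _ => by ring
  have hsum1 : ∑ β : F, f (szT h 1 β) * psi h β = q * 2 ^ m * ((∑ θ, (M θ : ℤ) * T θ : ℤ) : ℂ) * Complex.I := by
    rw [Finset.sum_congr rfl fun β _ => show f (szT h 1 β) * psi h β =
      ∑ θ : Cfsg.IrrCharacter (transl h), (M θ : ℂ) * ((θ : transl h → ℂ) (translEquiv h (1, β)) * psi h β) by
        rw [hdec', Finset.sum_mul]; simp [mul_assoc], Finset.sum_comm]
    simp only [← Finset.mul_sum, hT]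
    push_cast
    rw [Finset.mul_sum, Finset.sum_mul]
    exact Finset.sum_congr rfl fun θ _ => by ring
  refine ⟨a, b, ∑ θ, M θ * K θ, ∑ θ, (M θ : ℤ) * T θ, ?_, ?_⟩
  · push_cast
    rw [← Finset.sum_sub_distrib]
    exact Finset.dvd_sum fun θ _ => by rw [← mul_sub]; exact dvd_mul_of_dvd_right (hKT θ) _
  -- solve the linear relations
  have hψ : ∑ β : F, psi h β = 0 := by simpa using psi_sum h (1 : F)
  have e0 : ∑ β : F, f (szT h 0 β) * psi h β = f 1 - f (szT h 0 1) := by
    rw [← Finset.add_sum_erase _ _ (Finset.mem_univ (0 : F))] at hψ ⊢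
    rw [szT_one, AddChar.map_zero_eq_one, mul_one,
      Finset.sum_congr rfl fun β hβ => by rw [hz β (Finset.mem_erase.1 hβ).1], ← Finset.mul_sum]
    rw [AddChar.map_zero_eq_one] at hψ
    linear_combination f (szT h 0 1) * hψ
  have e1 : ∑ β : F, f (szT h 1 β) * psi h β = q / 2 * (f (szT h 1 0) - f (szT h 1 1)) := by
    rw [Finset.sum_congr rfl fun β _ => show f (szT h 1 β) * psi h β =
      if psi h (β / 1) = 1 then f (szT h 1 0) else -f (szT h 1 1) by
        rw [hfour 1 β one_ne_zero, theta_one, mul_one, div_one]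
        split_ifs with e
        · rw [e, mul_one]
        · rw [(S2457.psi_pm h β).resolve_left e]; ring, filter_psi h 1 one_ne_zero]
    ring
  rw [sum_transl h hcl] at hS
  have e2 : ∑ p : F × F, psi h p.1 * f (szT h p.1 p.2) =
      f 1 + (q - 1) * f (szT h 0 1) - q / 2 * (f (szT h 1 0) + f (szT h 1 1)) := by
    rw [Fintype.sum_prod_type, ← Finset.add_sum_erase _ _ (Finset.mem_univ (0 : F))]
    simp only [← Finset.mul_sum]
    rw [Finset.sum_congr rfl fun x hx => show psi h x * ∑ b : F, f (szT h x b) =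
      psi h x * (q / 2 * (f (szT h 1 0) + f (szT h 1 1))) by
        have hx0 := (Finset.mem_erase.1 hx).1
        rw [Finset.sum_congr rfl fun b _ => hfour x b hx0,
          filter_psi h _ (mul_ne_zero hx0 (theta_ne_zero hx0))], ← Finset.sum_mul]
    have hψ' : ∑ x ∈ Finset.univ.erase (0 : F), psi h x = -1 := by
      rw [← Finset.add_sum_erase _ _ (Finset.mem_univ (0 : F)), AddChar.map_zero_eq_one] at hψ
      linear_combination hψ
    rw [hψ', AddChar.map_zero_eq_one, ← Finset.add_sum_erase _ _ (Finset.mem_univ (0 : F)), szT_one,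
      Finset.sum_congr rfl fun b hb => hz b (Finset.mem_erase.1 hb).1, Finset.sum_const,
      Finset.card_erase_of_mem (Finset.mem_univ _), Finset.card_univ, nsmul_eq_mul, Nat.cast_sub Fintype.card_pos]
    push_cast
    ring
  rw [e2] at hS'
  rw [e0] at hsum0
  rw [e1] at hsum1
  set E : ℂ := ((∑ θ, M θ * K θ : ℕ) : ℂ)
  set D : ℂ := ((∑ θ, (M θ : ℤ) * T θ : ℤ) : ℂ)
  have p1 : f (szT h 1 0) + f (szT h 1 1) = 2 * ((a : ℂ) - b) :=
    mul_left_cancel₀ (pow_ne_zero 2 hq) (by linear_combination 2 * hS - 2 * hS')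
  have p2 : f (szT h 1 0) - f (szT h 1 1) = 2 * (2 ^ m * D * Complex.I) :=
    mul_left_cancel₀ hq (by linear_combination 2 * hsum1)
  have p3 : f 1 + (q - 1) * f (szT h 0 1) = q * ((a : ℂ) + (q - 1) * b) := by
    linear_combination hS - ((q - 1) * q / 2) * p1
  have p4 : f (szT h 0 1) = (a : ℂ) + (q - 1) * b - 2 ^ m * E :=
    mul_left_cancel₀ hq (by linear_combination p3 - hsum0)
  refine ⟨?_, p4, ?_, ?_, ?_⟩
  · linear_combination p3 - (q - 1) * p4
  · linear_combination (p1 + p2) / 2
  · linear_combination (p1 - p2) / 2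
  · rw [sum_transl h hcl]; exact hS

end Cfsg.Agent.Lib.SuzukiChars
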