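import Mathlib
import Cfsg.Agent.Lib.SuzukiChars.Unipotent
import Cfsg.Agent.Lib.SuzukiChars.Torus
import Cfsg.Agent.Lib.SuzukiChars.Borel
import Cfsg.Prelude.Def_DegreeGraph

/-! The degrees of the irreducible characters of the Suzuki groups. -/

set_option autoImplicit false

namespace Cfsg.Agent.Lib.SuzukiChars

open Cfsg.Agent.Lib Cfsg.Agent.Lib.Suzuki Cfsg.Agent.Lib.SuzukiSubgroups Cfsg.Agent.Lib.SuzukiSolv
open MulAction
open Cfsg.Agent.S2337 (psi psi_apply psi_theta psi_sq psi_sum one_notMem)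
open scoped ComplexConjugate

theorem norm_identity (s b e : ℝ) :
    4 * ((2 * s ^ 2 - 1) * (b + s * e)) ^ 2 + 4 * ((2 * s ^ 2) ^ 2 + 1) * (2 * s ^ 2 - 1) *
        (((2 * s ^ 2 - 1) * b - s * e) ^ 2 + 2 * s ^ 2 * b ^ 2) =
      (2 * s ^ 2) ^ 2 * (2 * s ^ 2 - 1) * ((2 * s ^ 2 - 2 * s + 1) * (e - 2 * s * b - 2 * b) ^ 2 +
        (2 * s ^ 2 + 2 * s + 1) * (-(e - 2 * s * b) - 2 * b) ^ 2) := by
  ring

variable {F : Type*} [Field F] [Fintype F] {m : ℕ} (h : Hyp F m)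
include h

theorem card_field_nat : Fintype.card F = 2 * (2 ^ m) ^ 2 := by
  rw [h.hF, ← pow_mul, ← pow_succ']; ring_nf

theorem n_values : n₁ h = 2 * (2 ^ m) ^ 2 + 2 * 2 ^ m + 1 ∧ n₂ h + 2 * 2 ^ m = 2 * (2 ^ m) ^ 2 + 1 := by
  obtain ⟨h8, h4, hr, -⟩ := numbers h
  have e1 : (2 : ℕ) ^ (2 * m + 1) = 2 * (2 ^ m) ^ 2 := by rw [← h.hF, card_field_nat h]
  have e2 : (2 : ℕ) ^ (m + 1) = 2 * 2 ^ m := pow_succ' 2 m
  unfold n₁ n₂
  rw [e1, e2]
  have : 2 ^ m ≤ (2 ^ m) ^ 2 := Nat.le_self_pow two_ne_zero _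
  exact ⟨rfl, by omega⟩

theorem nofix_of_type {U : Subgroup (Cfsg.Sz F m)} {n : ℕ} (hU : U ∈ typeSet h n) (hn : n ≠ n₀ h)
    {u : Cfsg.Sz F m} (hu : u ∈ U) (hu1 : u ≠ 1) :
    ∀ p : Cfsg.suzukiOvoid F m, u • p ≠ p := by
  rcases cyc_types h hU.1 with ⟨-, e, -⟩ | ⟨hT, -, -⟩
  · exact absurd (hU.2.symm.trans e) hn
  · exact torus_no_fix h hT hu hu1

theorem normalizer_of_type {U : Subgroup (Cfsg.Sz F m)} {n : ℕ} (hU : U ∈ typeSet h n) (hn : n ≠ n₀ h) :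
    Nat.card (Subgroup.normalizer (U : Set (Cfsg.Sz F m))) = 4 * n := by
  rcases cyc_types h hU.1 with ⟨-, e, -⟩ | ⟨-, -, e⟩
  · exact absurd (hU.2.symm.trans e) hn
  · rw [e, hU.2]

variable [Fintype (Cfsg.Sz F m)]

theorem esum_le_of_le {U : Subgroup (Cfsg.Sz F m)} {f : Cfsg.Sz F m → ℂ} {c : ℝ}
    (hf : ∀ u ∈ U, u ≠ 1 → Complex.normSq (f u) ≤ c) :
    esum U f ≤ ((Nat.card U : ℝ) - 1) * c := by
  classical
  rw [esum, ← Finset.sum_filter]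
  refine (Finset.sum_le_card_nsmul _ _ c fun u hu => ?_).trans (le_of_eq ?_)
  · obtain ⟨h1, h2⟩ := (Finset.mem_filter.1 hu).2
    exact hf u h1 h2
  · rw [nsmul_eq_mul, show (Finset.univ.filter fun g : Cfsg.Sz F m => g ∈ U ∧ g ≠ 1) =
      (Finset.univ.filter fun g : Cfsg.Sz F m => g ∈ U).erase 1 by ext g; simp [and_comm],
      Finset.card_erase_of_mem (by simp [U.one_mem]), ← Fintype.card_subtype, Nat.cast_sub Fintype.card_pos,
      Fintype.card_eq_nat_card]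
    simp

open Classical in
theorem sum_esum {U : Subgroup (Cfsg.Sz F m)} (hU : CycU h U) :
    ∑ χ : Cfsg.IrrCharacter (Cfsg.Sz F m), esum U (χ : Cfsg.Sz F m → ℂ) =
      ((Nat.card U : ℝ) - 1) * Nat.card U := by
  unfold esum
  rw [Finset.sum_comm]
  rw [Finset.sum_congr rfl fun g _ => show (∑ χ : Cfsg.IrrCharacter (Cfsg.Sz F m),
      if g ∈ U ∧ g ≠ 1 then Complex.normSq ((χ : Cfsg.Sz F m → ℂ) g) else 0) =
      if g ∈ U ∧ g ≠ 1 then (Nat.card U : ℝ) else 0 by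
    split_ifs with hg
    · have e := Chars.column_orthogonality_of_isConj (g := g) (h := g) (IsConj.refl g)
      rw [cyc_centralizer h hU hg.1 hg.2] at e
      simp only [Complex.mul_conj, ← Complex.ofReal_sum] at e
      exact_mod_cast e
    · exact Finset.sum_const_zero]
  rw [← Finset.sum_filter, Finset.sum_const, nsmul_eq_mul,
    show (Finset.univ.filter fun g : Cfsg.Sz F m => g ∈ U ∧ g ≠ 1) =
      (Finset.univ.filter fun g : Cfsg.Sz F m => g ∈ U).erase 1 by ext g; simp [and_comm],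
    Finset.card_erase_of_mem (by simp [U.one_mem]), ← Fintype.card_subtype, Nat.cast_sub Fintype.card_pos,
    Fintype.card_eq_nat_card]
  simp

open Classical in
/-- The norm relation for a character without fixed vectors under a Sylow 2-subgroup. -/
theorem norm_ineq {U₁ U₂ : Subgroup (Cfsg.Sz F m)} (hU₁ : U₁ ∈ typeSet h (n₁ h)) (hU₂ : U₂ ∈ typeSet h (n₂ h))
    (χ : Cfsg.IrrCharacter (Cfsg.Sz F m)) {b e : ℕ} {Δ : ℤ}
    (h1 : (χ : Cfsg.Sz F m → ℂ) 1 = (((2 * (2 ^ m) ^ 2 - 1) * ((b : ℝ) + 2 ^ m * e) : ℝ) : ℂ))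
    (hz : (χ : Cfsg.Sz F m → ℂ) (szT h 0 1) = (((2 * (2 ^ m) ^ 2 - 1) * (b : ℝ) - 2 ^ m * e : ℝ) : ℂ))
    (h10 : (χ : Cfsg.Sz F m → ℂ) (szT h 1 0) = -(b : ℂ) + 2 ^ m * (Δ : ℂ) * Complex.I)
    (h11 : (χ : Cfsg.Sz F m → ℂ) (szT h 1 1) = -(b : ℂ) - 2 ^ m * (Δ : ℂ) * Complex.I) :
    4 * ((2 * ((2 : ℝ) ^ m) ^ 2 - 1) * ((b : ℝ) + 2 ^ m * e)) ^ 2 +
        4 * ((2 * ((2 : ℝ) ^ m) ^ 2) ^ 2 + 1) * (2 * ((2 : ℝ) ^ m) ^ 2 - 1) *
          (((2 * ((2 : ℝ) ^ m) ^ 2 - 1) * (b : ℝ) - 2 ^ m * e) ^ 2 +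
            2 * ((2 : ℝ) ^ m) ^ 2 * ((b : ℝ) ^ 2 + ((2 : ℝ) ^ m) ^ 2 * (Δ : ℝ) ^ 2)) +
        (2 * ((2 : ℝ) ^ m) ^ 2) ^ 2 * (2 * ((2 : ℝ) ^ m) ^ 2 - 1) *
          ((n₂ h : ℝ) * esum U₁ (χ : Cfsg.Sz F m → ℂ) + (n₁ h : ℝ) * esum U₂ (χ : Cfsg.Sz F m → ℂ)) ≤
      4 * ((2 * ((2 : ℝ) ^ m) ^ 2) ^ 2 * (2 * ((2 : ℝ) ^ m) ^ 2 - 1) * ((n₁ h : ℝ) * n₂ h)) := by
  obtain ⟨U₀, hU₀⟩ := exists_member_card h (n₀ h) (Or.inl rfl)
  set f := (χ : Cfsg.Sz F m → ℂ) with hf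
  obtain ⟨hn1, hn2⟩ := n_values h
  have h8 := (numbers h).1
  have hne1 : n₁ h ≠ n₀ h := by unfold n₁ n₀; omega
  have hne2 : n₂ h ≠ n₀ h := by
    obtain ⟨-, h4, hr, -⟩ := numbers h
    unfold n₂ n₀; omega
  have hg : Cfsg.IsClassFunction (Cfsg.Sz F m) (fun g => f g * conj (f g)) := fun g k => by
    simp only [hf, Chars.irr_isClassFunction χ g k]
  have hsum : ∑ g, f g * conj (f g) = (Nat.card (Cfsg.Sz F m) : ℂ) := by
    have := Chars.classInner_irr_self χ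
    rwa [Cfsg.classInner, inv_mul_eq_one₀ Chars.natCard_ne_zero, eq_comm] at this
  rw [sum_all h hg hU₀ hU₁ hU₂, punc_transl h hg, punc_normSq h, punc_normSq h, punc_normSq h] at hsum
  have ht1 := typeSet_card h hU₁ (e := 4) (n := n₁ h) (normalizer_of_type h hU₁ hne1)
  have ht2 := typeSet_card h hU₂ (e := 4) (n := n₂ h) (normalizer_of_type h hU₂ hne2)
  have hprod : ((n₁ h : ℝ) * n₂ h) = (2 * ((2 : ℝ) ^ m) ^ 2) ^ 2 + 1 := by
    have e1 : (n₁ h : ℝ) = 2 * ((2 : ℝ) ^ m) ^ 2 + 2 * 2 ^ m + 1 := by exact_mod_cast hn1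
    have e2 : (n₂ h : ℝ) + 2 * 2 ^ m = 2 * ((2 : ℝ) ^ m) ^ 2 + 1 := by exact_mod_cast hn2
    rw [e1, eq_sub_of_add_eq e2]; ring
  have hG : (Nat.card (Cfsg.Sz F m) : ℂ) =
      (((2 * ((2 : ℝ) ^ m) ^ 2) ^ 2 * ((2 * ((2 : ℝ) ^ m) ^ 2) ^ 2 + 1) * (2 * ((2 : ℝ) ^ m) ^ 2 - 1) : ℝ) : ℂ) := by
    rw [card_Sz h, Nat.cast_mul, Nat.cast_mul, Nat.cast_sub Fintype.card_pos, card_field_nat h]
    push_cast; ring
  have hq : (Fintype.card F : ℂ) = ((2 * ((2 : ℝ) ^ m) ^ 2 : ℝ) : ℂ) := by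
    rw [card_field_nat h]; push_cast; ring
  have hnn : f 1 * conj (f 1) = ((((2 * ((2 : ℝ) ^ m) ^ 2 - 1) * ((b : ℝ) + 2 ^ m * e)) ^ 2 : ℝ) : ℂ) := by
    rw [h1, Complex.conj_ofReal]; push_cast; ring
  have hzz : f (szT h 0 1) * conj (f (szT h 0 1)) =
      ((((2 * ((2 : ℝ) ^ m) ^ 2 - 1) * (b : ℝ) - 2 ^ m * e) ^ 2 : ℝ) : ℂ) := by
    rw [hz, Complex.conj_ofReal]; push_cast; ring
  have hss : f (szT h 1 0) * conj (f (szT h 1 0)) + f (szT h 1 1) * conj (f (szT h 1 1)) =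
      ((2 * ((b : ℝ) ^ 2 + ((2 : ℝ) ^ m) ^ 2 * (Δ : ℝ) ^ 2) : ℝ) : ℂ) := by
    rw [h10, h11]
    simp only [map_add, map_sub, map_neg, map_mul, map_pow, Complex.conj_natCast, Complex.conj_I,
      Complex.conj_ofNat, map_intCast]
    push_cast
    linear_combination (-2 * (2 ^ m : ℂ) ^ 2 * (Δ : ℂ) ^ 2) * Complex.I_mul_I
  rw [hnn, hzz, hss, hq, hG] at hsum
  rw [hG] at ht1 ht2
  set T₀ := (typeSet h (n₀ h)).ncard
  set T₁ := (typeSet h (n₁ h)).ncard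
  set T₂ := (typeSet h (n₂ h)).ncard
  have hsum' : ((2 * ((2 : ℝ) ^ m) ^ 2 - 1) * ((b : ℝ) + 2 ^ m * e)) ^ 2 +
      ((2 * ((2 : ℝ) ^ m) ^ 2) ^ 2 + 1) * ((2 * ((2 : ℝ) ^ m) ^ 2 - 1) *
        ((2 * ((2 : ℝ) ^ m) ^ 2 - 1) * (b : ℝ) - 2 ^ m * e) ^ 2 + (2 * ((2 : ℝ) ^ m) ^ 2 - 1) *
          ((2 * ((2 : ℝ) ^ m) ^ 2) / 2 * (2 * ((b : ℝ) ^ 2 + ((2 : ℝ) ^ m) ^ 2 * (Δ : ℝ) ^ 2)))) +
      (T₀ : ℝ) * esum U₀ f + (T₁ : ℝ) * esum U₁ f + (T₂ : ℝ) * esum U₂ f =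
      (2 * ((2 : ℝ) ^ m) ^ 2) ^ 2 * ((2 * ((2 : ℝ) ^ m) ^ 2) ^ 2 + 1) * (2 * ((2 : ℝ) ^ m) ^ 2 - 1) := by
    refine Complex.ofReal_injective ?_
    rw [← hsum]
    push_cast
    ring
  have ht1' : (T₁ : ℝ) * (4 * n₁ h) =
      (2 * ((2 : ℝ) ^ m) ^ 2) ^ 2 * ((2 * ((2 : ℝ) ^ m) ^ 2) ^ 2 + 1) * (2 * ((2 : ℝ) ^ m) ^ 2 - 1) := by
    refine Complex.ofReal_injective ?_
    rw [← ht1]; push_cast; ring
  have ht2' : (T₂ : ℝ) * (4 * n₂ h) =
      (2 * ((2 : ℝ) ^ m) ^ 2) ^ 2 * ((2 * ((2 : ℝ) ^ m) ^ 2) ^ 2 + 1) * (2 * ((2 : ℝ) ^ m) ^ 2 - 1) := by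
    refine Complex.ofReal_injective ?_
    rw [← ht2]; push_cast; ring
  rw [← hprod] at ht1' ht2'
  have hp1 : (0 : ℝ) < n₁ h := by exact_mod_cast (show 0 < n₁ h by omega)
  have hp2 : (0 : ℝ) < n₂ h := by exact_mod_cast (show 0 < n₂ h by unfold n₂; omega)
  have k1 : 4 * (T₁ : ℝ) = (2 * ((2 : ℝ) ^ m) ^ 2) ^ 2 * (n₂ h : ℝ) * (2 * ((2 : ℝ) ^ m) ^ 2 - 1) :=
    mul_right_cancel₀ hp1.ne' (by linear_combination ht1')
  have k2 : 4 * (T₂ : ℝ) = (2 * ((2 : ℝ) ^ m) ^ 2) ^ 2 * (n₁ h : ℝ) * (2 * ((2 : ℝ) ^ m) ^ 2 - 1) :=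
    mul_right_cancel₀ hp2.ne' (by linear_combination ht2')
  have h0 : 0 ≤ (T₀ : ℝ) * esum U₀ f := mul_nonneg (Nat.cast_nonneg _) (esum_nonneg _ _)
  linear_combination 4 * hsum' + 4 * h0 - esum U₁ f * k1 - esum U₂ f * k2 -
    (4 * (2 * ((2 : ℝ) ^ m) ^ 2) ^ 2 * (2 * ((2 : ℝ) ^ m) ^ 2 - 1)) * hprod

/-- The six kinds of irreducible characters. -/
def Kind (U₁ U₂ : Subgroup (Cfsg.Sz F m)) (χ : Cfsg.IrrCharacter (Cfsg.Sz F m)) : Prop :=
  χ = Chars.trivialIrr (Cfsg.Sz F m) ∨ χ = stChar h ∨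
    ((χ : Cfsg.Sz F m → ℂ) 1 = ((Fintype.card F ^ 2 + 1 : ℕ) : ℂ) ∧
      ((χ : Cfsg.Sz F m → ℂ) (szT h 1 0)).im = 0 ∧
      esum U₁ (χ : Cfsg.Sz F m → ℂ) ≤ 0 ∧ esum U₂ (χ : Cfsg.Sz F m → ℂ) ≤ 0) ∨
    ((χ : Cfsg.Sz F m → ℂ) 1 = (((Fintype.card F - 1) * 2 ^ m : ℕ) : ℂ) ∧
      ((χ : Cfsg.Sz F m → ℂ) (szT h 1 0)).im ^ 2 = ((2 : ℝ) ^ m) ^ 2 ∧
      esum U₁ (χ : Cfsg.Sz F m → ℂ) ≤ (n₁ h : ℝ) - 1 ∧ esum U₂ (χ : Cfsg.Sz F m → ℂ) ≤ (n₂ h : ℝ) - 1) ∨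
    ((χ : Cfsg.Sz F m → ℂ) 1 = (((Fintype.card F - 1) * n₁ h : ℕ) : ℂ) ∧
      ((χ : Cfsg.Sz F m → ℂ) (szT h 1 0)).im = 0 ∧ esum U₁ (χ : Cfsg.Sz F m → ℂ) ≤ 0) ∨
    ((χ : Cfsg.Sz F m → ℂ) 1 = (((Fintype.card F - 1) * n₂ h : ℕ) : ℂ) ∧
      ((χ : Cfsg.Sz F m → ℂ) (szT h 1 0)).im = 0 ∧ esum U₂ (χ : Cfsg.Sz F m → ℂ) ≤ 0)

theorem kind_of_irr {U₁ U₂ : Subgroup (Cfsg.Sz F m)} (hU₁ : U₁ ∈ typeSet h (n₁ h)) (hU₂ : U₂ ∈ typeSet h (n₂ h))
    (χ : Cfsg.IrrCharacter (Cfsg.Sz F m)) : Kind h U₁ U₂ χ := by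
  classical
  obtain ⟨a, b, e, Δ, hpar, h1, hz, h10, h11, hS⟩ := params h χ
  obtain ⟨h8, h4, hr, -⟩ := numbers h
  have hne1 : n₁ h ≠ n₀ h := by unfold n₁ n₀; omega
  have hne2 : n₂ h ≠ n₀ h := by unfold n₂ n₀; omega
  by_cases ha : a = 0
  swap
  · have hS0 : ∑ p : F × F, (χ : Cfsg.Sz F m → ℂ) (szT h p.1 p.2) ≠ 0 := by
      rw [hS]
      exact mul_ne_zero (pow_ne_zero 2 (Nat.cast_ne_zero.2 Fintype.card_ne_zero)) (Nat.cast_ne_zero.2 ha)
    rcases cases_fixed h hS0 with e' | e' | ⟨d1, d2, d3⟩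
    · exact Or.inl e'
    · exact Or.inr (Or.inl e')
    · refine Or.inr (Or.inr (Or.inl ⟨by rw [d1]; push_cast; rfl, ?_, ?_, ?_⟩))
      · rw [d2 1 0 (SuzukiSylow.szT_one_zero_ne_one h), Complex.one_im]
      · refine (esum_le_of_le h (c := 0) fun u hu hu1 => ?_).trans (by rw [mul_zero])
        rw [d3 u (nofix_of_type h hU₁ hne1 hu hu1), map_zero]
      · refine (esum_le_of_le h (c := 0) fun u hu hu1 => ?_).trans (by rw [mul_zero])
        rw [d3 u (nofix_of_type h hU₂ hne2 hu hu1), map_zero]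
  subst ha
  have hq : (Fintype.card F : ℂ) = 2 * (2 ^ m) ^ 2 := by rw [card_field_nat h]; push_cast; ring
  simp only [hq, Nat.cast_zero, zero_add, zero_sub] at h1 hz h10 h11
  have hI := norm_ineq h hU₁ hU₂ χ (b := b) (e := e) (Δ := Δ) (by rw [h1]; push_cast; ring)
    (by rw [hz]; push_cast; ring) h10 h11
  obtain ⟨hn1, hn2⟩ := n_values h
  obtain ⟨s, hs⟩ : ∃ s : ℕ, s = 2 ^ m := ⟨_, rfl⟩
  have hs2 : 2 ≤ s := by rw [hs]; exact Nat.le_self_pow (by have := h.hm; omega) 2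
  set N : ℕ := (Fintype.card F - 1) * (b + s * e) with hNdef
  have hN : (χ : Cfsg.Sz F m → ℂ) 1 = N := by
    rw [h1, hNdef, Nat.cast_mul, Nat.cast_sub Fintype.card_pos, hq, hs]; push_cast; ring
  have hNz : (N : ℤ) = (2 * (s : ℤ) ^ 2 - 1) * (b + s * e) := by
    rw [hNdef, Nat.cast_mul, Nat.cast_sub Fintype.card_pos, card_field_nat h, hs]; push_cast; ring
  have hn1z : (n₁ h : ℤ) = 2 * (s : ℤ) ^ 2 + 2 * s + 1 := by rw [hn1, hs]; push_cast; ring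
  have hn2z : (n₂ h : ℤ) = 2 * (s : ℤ) ^ 2 - 2 * s + 1 := by
    have : (n₂ h : ℤ) + 2 * (s : ℤ) = 2 * (s : ℤ) ^ 2 + 1 := by rw [hs]; exact_mod_cast hn2
    linarith
  obtain ⟨x, hx⟩ : ∃ x : ℤ, x = (e : ℤ) - 2 * s * b := ⟨_, rfl⟩
  have hd1 : (Nat.card U₁ : ℤ) ∣ (N : ℤ) - (x - 2 * b) :=
    ⟨(e : ℤ) * ((s : ℤ) - 1) + b, by rw [hU₁.2, hNz, hn1z, hx]; ring⟩
  have hd2 : (Nat.card U₂ : ℤ) ∣ (N : ℤ) - (-x - 2 * b) :=
    ⟨(e : ℤ) * ((s : ℤ) + 1) + b, by rw [hU₂.2, hNz, hn2z, hx]; ring⟩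
  have b1 := esum_ge h hU₁.1 χ hN hd1
  have b2 := esum_ge h hU₂.1 χ hN hd2
  rw [hU₁.2] at b1
  rw [hU₂.2] at b2
  set S₁ := esum U₁ (χ : Cfsg.Sz F m → ℂ) with hS₁
  set S₂ := esum U₂ (χ : Cfsg.Sz F m → ℂ) with hS₂
  have hn1r : (n₁ h : ℝ) = 2 * ((2 : ℝ) ^ m) ^ 2 + 2 * 2 ^ m + 1 := by exact_mod_cast hn1
  have hn2r : (n₂ h : ℝ) = 2 * ((2 : ℝ) ^ m) ^ 2 - 2 * 2 ^ m + 1 := by
    have : (n₂ h : ℝ) + 2 * 2 ^ m = 2 * ((2 : ℝ) ^ m) ^ 2 + 1 := by exact_mod_cast hn2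
    linarith
  have hsr : (s : ℝ) = (2 : ℝ) ^ m := by rw [hs]; push_cast; rfl
  have hxr : (x : ℝ) = (e : ℝ) - 2 * (2 : ℝ) ^ m * b := by rw [hx, ← hsr]; push_cast; rfl
  have hp1 : (0 : ℝ) < n₁ h := by exact_mod_cast (show 0 < n₁ h by omega)
  have hp2 : (0 : ℝ) < n₂ h := by exact_mod_cast (show 0 < n₂ h by unfold n₂; omega)
  have hgap : (n₂ h : ℝ) * (S₁ - ((n₁ h : ℝ) * |((x - 2 * b : ℤ) : ℝ)| - ((x - 2 * b : ℤ) : ℝ) ^ 2)) +
      (n₁ h : ℝ) * (S₂ - ((n₂ h : ℝ) * |((-x - 2 * b : ℤ) : ℝ)| - ((-x - 2 * b : ℤ) : ℝ) ^ 2)) ≤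
      (n₁ h : ℝ) * n₂ h * (4 - |((x - 2 * b : ℤ) : ℝ)| - |((-x - 2 * b : ℤ) : ℝ)| - 2 * (Δ : ℝ) ^ 2) := by
    have hpos : (0 : ℝ) < (2 * ((2 : ℝ) ^ m) ^ 2) ^ 2 * (2 * ((2 : ℝ) ^ m) ^ 2 - 1) := by
      have : (1 : ℝ) ≤ (2 : ℝ) ^ m := one_le_pow₀ (by norm_num)
      refine mul_pos (by positivity) ?_
      nlinarith
    refine le_of_mul_le_mul_left ?_ hpos
    have e1 : ((x - 2 * b : ℤ) : ℝ) = (e : ℝ) - 2 * (2 : ℝ) ^ m * b - 2 * b := by push_cast; rw [hxr]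
    have e2 : ((-x - 2 * b : ℤ) : ℝ) = -((e : ℝ) - 2 * (2 : ℝ) ^ m * b) - 2 * b := by push_cast; rw [hxr]
    rw [e1, e2]
    have key := norm_identity ((2 : ℝ) ^ m) b e
    rw [hn1r, hn2r] at hI ⊢
    linear_combination hI - key
  have g1 := mul_nonneg hp2.le (sub_nonneg.2 b1)
  have g2 := mul_nonneg hp1.le (sub_nonneg.2 b2)
  have hb4 : |x - 2 * (b : ℤ)| + |-x - 2 * (b : ℤ)| + 2 * Δ ^ 2 ≤ 4 := by
    have : (0 : ℝ) ≤ 4 - |((x - 2 * b : ℤ) : ℝ)| - |((-x - 2 * b : ℤ) : ℝ)| - 2 * (Δ : ℝ) ^ 2 :=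
      nonneg_of_mul_nonneg_right (le_trans (add_nonneg g1 g2) hgap) (mul_pos hp1 hp2)
    have h' : ((|x - 2 * (b : ℤ)| + |-x - 2 * (b : ℤ)| + 2 * Δ ^ 2 : ℤ) : ℝ) ≤ ((4 : ℤ) : ℝ) := by
      push_cast at this ⊢
      linarith
    exact_mod_cast h'
  have hΔ1 : Δ = -1 ∨ Δ = 0 ∨ Δ = 1 := by
    have := abs_nonneg (x - 2 * (b : ℤ))
    have := abs_nonneg (-x - 2 * (b : ℤ))
    have h3 : Δ ^ 2 ≤ 2 := by linarith
    have : -1 ≤ Δ := by nlinarith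
    have : Δ ≤ 1 := by nlinarith
    omega
  have hb : b ≤ 1 := by
    have := neg_abs_le (x - 2 * (b : ℤ))
    have := neg_abs_le (-x - 2 * (b : ℤ))
    nlinarith [sq_nonneg Δ]
  have him : ((χ : Cfsg.Sz F m → ℂ) (szT h 1 0)).im = (2 : ℝ) ^ m * (Δ : ℝ) := by
    rw [h10, show (2 : ℂ) ^ m * (Δ : ℂ) = (((2 : ℝ) ^ m * Δ : ℝ) : ℂ) by push_cast; ring]
    simp only [Complex.add_im, Complex.neg_im, Complex.natCast_im, Complex.mul_im, Complex.I_im, Complex.I_re,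
      Complex.ofReal_im, Complex.ofReal_re]
    ring
  rcases (show b = 0 ∨ b = 1 by omega) with rfl | rfl
  · have hx' : x = e := by rw [hx]; simp
    subst hx'
    simp only [Nat.cast_zero, mul_zero, sub_zero] at hb4 hgap b1 b2 g1 g2 hd1 hd2
    rw [abs_neg, Int.abs_natCast] at hb4
    have he0 : e ≠ 0 := by
      rintro rfl
      refine Chars.irr_apply_one_ne_zero χ ?_
      rw [h1]; simp
    have hΔ2 : Δ ^ 2 = 0 ∧ Δ = 0 ∨ Δ ^ 2 = 1 ∧ (Δ = 1 ∨ Δ = -1) := by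
      rcases hΔ1 with rfl | rfl | rfl <;> simp
    rcases hΔ2 with ⟨hsq, hΔ⟩ | ⟨hsq, hΔ⟩
    · exfalso
      subst hΔ
      have he2 : e = 2 := by omega
      subst he2
      have hN4 := normalizer_of_type h hU₁ hne1
      rw [← hU₁.2] at hN4
      have c1 := esum_ge_two h hU₁.1 hN4 χ hN hd1 (by norm_num)
      rw [hU₁.2, ← hS₁] at c1
      norm_num at hgap g2
      nlinarith [mul_le_mul_of_nonneg_left c1 hp2.le]
    · have he1 : e = 1 := by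
        rcases hΔ with rfl | rfl <;> omega
      subst he1
      refine Or.inr (Or.inr (Or.inr (Or.inl ⟨?_, ?_, ?_, ?_⟩)))
      · rw [hN, hNdef, hs]; simp
      · have : (Δ : ℝ) ^ 2 = 1 := by exact_mod_cast hsq
        rw [him, mul_pow, this, mul_one]
      · have : (Δ : ℝ) ^ 2 = 1 := by exact_mod_cast hsq
        simp [this] at hgap b1 b2
        nlinarith
      · have : (Δ : ℝ) ^ 2 = 1 := by exact_mod_cast hsq
        simp [this] at hgap b1 b2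
        nlinarith
  · simp only [Nat.cast_one, mul_one] at hb4 hgap b1 b2 g1 g2 hd1 hd2
    have hxle : -2 ≤ x ∧ x ≤ 2 := by
      have := le_abs_self (x - 2)
      have := neg_abs_le (x - 2)
      have := le_abs_self (-x - 2)
      have := neg_abs_le (-x - 2)
      have := sq_nonneg Δ
      constructor <;> linarith
    have hΔ : Δ = 0 := by
      have := le_abs_self (x - 2)
      have := neg_abs_le (x - 2)
      have := neg_abs_le (-x - 2)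
      rcases hΔ1 with rfl | rfl | rfl <;> omega
    subst hΔ
    have heven : x = -2 ∨ x = 0 ∨ x = 2 := by
      rw [show (1 : ℕ) = 1 from rfl] at hx
      push_cast at hx
      omega
    rw [Int.cast_zero, mul_zero] at him
    rcases heven with rfl | rfl | rfl
    · refine Or.inr (Or.inr (Or.inr (Or.inr (Or.inr ⟨?_, him, ?_⟩))))
      · rw [hN, hNdef]
        congr 2
        have : (s : ℤ) * e + 1 = n₂ h := by
          rw [hn2z]
          push_cast at hx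
          linear_combination -(s : ℤ) * hx
        have h2 : ((1 + s * e : ℕ) : ℤ) = (n₂ h : ℤ) := by push_cast; linarith
        exact_mod_cast h2
      · norm_num at hgap g1
        nlinarith
    · exfalso
      obtain ⟨k, hk, hk1, hkd⟩ := Chars.irr_degree_dvd_card χ
      rw [hN, Nat.cast_inj] at hk1
      rw [← hk1, card_Sz h, hNdef, mul_comm (Fintype.card F ^ 2 * _), Nat.mul_dvd_mul_iff_left
        (by have := Fintype.one_lt_card (α := F); omega)] at hkd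
      have he : e = 2 * s := by
        push_cast at hx
        omega
      have hF' : Fintype.card F = 2 * s ^ 2 := by rw [card_field_nat h, hs]
      have h1' : 1 + s * e = Fintype.card F + 1 := by rw [he, hF']; ring
      rw [h1'] at hkd
      have hco : Nat.Coprime (Fintype.card F + 1) (Fintype.card F ^ 2) := by
        refine Nat.Coprime.pow_right 2 ?_
        rw [Nat.coprime_self_add_left]
        exact Nat.coprime_one_left _
      have hd : Fintype.card F + 1 ∣ Fintype.card F ^ 2 + 1 := hco.dvd_of_dvd_mul_left hkd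
      have hd' : ((Fintype.card F + 1 : ℕ) : ℤ) ∣ 2 := by
        have h2 := Int.natCast_dvd_natCast.2 hd
        have : (2 : ℤ) = ((Fintype.card F ^ 2 + 1 : ℕ) : ℤ) -
            ((Fintype.card F + 1 : ℕ) : ℤ) * ((Fintype.card F : ℤ) - 1) := by push_cast; ring
        rw [this]
        exact dvd_sub h2 (dvd_mul_right _ _)
      have := Int.le_of_dvd two_pos hd'
      have := h.hF
      push_cast at *
      omega
    · refine Or.inr (Or.inr (Or.inr (Or.inr (Or.inl ⟨?_, him, ?_⟩))))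
      · rw [hN, hNdef]
        congr 2
        have : (s : ℤ) * e + 1 = n₁ h := by
          rw [hn1z]
          push_cast at hx
          linear_combination -(s : ℤ) * hx
        have h2 : ((1 + s * e : ℕ) : ℤ) = (n₁ h : ℤ) := by push_cast; linarith
        exact_mod_cast h2
      · norm_num at hgap g2
        nlinarith

theorem four_not_conj_inv : ¬ IsConj (szT h 1 0) (szT h 1 1) := by
  intro hc
  obtain ⟨g, hg⟩ := isConj_iff.1 hc
  have hfix := SuzukiSylow.smul_inf_of_conj h (SuzukiSylow.szT_one_zero_ne_one h)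
    (by rw [hg]; exact szT_mem_transl h 1 1)
  obtain ⟨c, d, u, rfl⟩ := eq_szT_szH_of_fix h hfix
  rw [SuzukiSylow.conj_szT] at hg
  obtain ⟨e1, e2⟩ := szT_inj h hg
  rw [mul_one] at e1
  simp only [e1, mul_one, one_mul, mul_zero, zero_add, theta_one] at e2
  have hp := S2457.psi_one h
  rw [← e2, AddChar.map_add_eq_mul, psi_theta, psi_sq] at hp
  norm_num at hp

theorem card_centralizer_four :
    Nat.card (Subgroup.centralizer ({szT h 1 0} : Set (Cfsg.Sz F m))) = 2 * Fintype.card F := by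
  classical
  let f : Fin 2 × F → Subgroup.centralizer ({szT h 1 0} : Set (Cfsg.Sz F m)) := fun x =>
    ⟨szT h (if x.1 = 0 then 0 else 1) x.2, Subgroup.mem_centralizer_singleton_iff.2 (by
      rw [szT_mul, szT_mul]
      split_ifs <;> simp [theta_zero, theta_one, add_comm])⟩
  have hf : Function.Bijective f := by
    constructor
    · rintro ⟨i, d⟩ ⟨j, d'⟩ hij
      obtain ⟨e1, e2⟩ := szT_inj h (congrArg Subtype.val hij)
      subst e2
      fin_cases i <;> fin_cases j <;> simp at e1 ⊢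
    · rintro ⟨g, hg⟩
      rw [Subgroup.mem_centralizer_singleton_iff] at hg
      have hc : g * szT h 1 0 * g⁻¹ = szT h 1 0 := by rw [hg]; group
      have hfix := SuzukiSylow.smul_inf_of_conj h (SuzukiSylow.szT_one_zero_ne_one h)
        (by rw [hc]; exact szT_mem_transl h 1 0)
      obtain ⟨c, d, u, rfl⟩ := eq_szT_szH_of_fix h hfix
      rw [SuzukiSylow.conj_szT] at hc
      obtain ⟨e1, e2⟩ := szT_inj h hc
      rw [mul_one] at e1
      have hu : u = 1 := Units.ext (h.theta_injective (e1.trans theta_one.symm))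
      simp only [e1, mul_one, one_mul, mul_zero, zero_add, theta_one] at e2
      have hth : theta m c = c := by linear_combination e2 - c * h.two
      have hcc : c ^ 2 = c := by rw [← h.theta_theta, hth, hth]
      rcases S2337.eq_zero_or_one hcc with rfl | rfl
      · exact ⟨(0, d), Subtype.ext (by simp [f, hu, szH_one])⟩
      · exact ⟨(1, d), Subtype.ext (by simp [f, hu, szH_one])⟩
  rw [← Nat.card_congr (Equiv.ofBijective f hf), Nat.card_prod, Nat.card_eq_fintype_card (α := F)]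
  simp

open Classical in
theorem card_im_ne_zero {U₁ U₂ : Subgroup (Cfsg.Sz F m)} (hU₁ : U₁ ∈ typeSet h (n₁ h))
    (hU₂ : U₂ ∈ typeSet h (n₂ h)) :
    (Finset.univ.filter fun χ : Cfsg.IrrCharacter (Cfsg.Sz F m) =>
      ((χ : Cfsg.Sz F m → ℂ) (szT h 1 0)).im ≠ 0).card = 2 := by
  have hinv : (szT h 1 0)⁻¹ = szT h 1 1 := by rw [szT_inv]; simp [theta_one]
  have e1 := Chars.column_orthogonality_of_isConj (IsConj.refl (szT h 1 0))
  have e2 := Chars.column_orthogonality_of_not_isConj (g := szT h 1 0) (h := szT h 1 1) (four_not_conj_inv h)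
  simp only [← hinv, Chars.irr_inv, Complex.conj_conj] at e2
  have r1 := congrArg Complex.re e1
  have r2 := congrArg Complex.re e2
  rw [card_centralizer_four h, card_field_nat h] at r1
  simp only [Complex.re_sum, Complex.mul_re, Complex.conj_re, Complex.conj_im, Complex.natCast_re,
    Complex.zero_re] at r1 r2
  push_cast at r1
  have him : ∑ χ : Cfsg.IrrCharacter (Cfsg.Sz F m), ((χ : Cfsg.Sz F m → ℂ) (szT h 1 0)).im ^ 2 =
      2 * ((2 : ℝ) ^ m) ^ 2 := by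
    have : (2 : ℝ) * ∑ χ : Cfsg.IrrCharacter (Cfsg.Sz F m), ((χ : Cfsg.Sz F m → ℂ) (szT h 1 0)).im ^ 2 =
        2 * (2 * ((2 : ℝ) ^ m) ^ 2) := by
      rw [← r1, ← sub_zero (∑ χ : Cfsg.IrrCharacter (Cfsg.Sz F m), (_ - _)), ← r2, ← Finset.sum_sub_distrib,
        Finset.mul_sum]
      exact Finset.sum_congr rfl fun χ _ => by ring
    linarith
  have hval : ∀ χ : Cfsg.IrrCharacter (Cfsg.Sz F m), ((χ : Cfsg.Sz F m → ℂ) (szT h 1 0)).im ≠ 0 →
      ((χ : Cfsg.Sz F m → ℂ) (szT h 1 0)).im ^ 2 = ((2 : ℝ) ^ m) ^ 2 := by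
    intro χ hχ
    rcases kind_of_irr h hU₁ hU₂ χ with rfl | rfl | k | k | k | k
    · exact absurd (by simp [Chars.trivialIrr_apply]) hχ
    · exact absurd (by rw [(stChar_values h).2.1 1 0 (SuzukiSylow.szT_one_zero_ne_one h), Complex.zero_im]) hχ
    · exact absurd k.2.1 hχ
    · exact k.2.1
    · exact absurd k.2.1 hχ
    · exact absurd k.2.1 hχ
  rw [← Finset.sum_filter_of_ne (p := fun χ : Cfsg.IrrCharacter (Cfsg.Sz F m) =>
      ((χ : Cfsg.Sz F m → ℂ) (szT h 1 0)).im ≠ 0) (fun χ _ hne e => hne (by rw [e]; simp)),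
    Finset.sum_congr rfl fun χ hχ => hval χ (Finset.mem_filter.1 hχ).2, Finset.sum_const, nsmul_eq_mul] at him
  have : ((2 : ℝ) ^ m) ^ 2 ≠ 0 := by positivity
  exact_mod_cast mul_right_cancel₀ this him

open Classical in
theorem exists_small {U₁ U₂ : Subgroup (Cfsg.Sz F m)} (hU₁ : U₁ ∈ typeSet h (n₁ h))
    (hU₂ : U₂ ∈ typeSet h (n₂ h)) {U : Subgroup (Cfsg.Sz F m)} {n : ℕ} (hU : U ∈ typeSet h n) (hn : n ≠ n₀ h)
    (h5 : 5 ≤ n) (hUk : ∀ χ : Cfsg.IrrCharacter (Cfsg.Sz F m),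
      ((χ : Cfsg.Sz F m → ℂ) (szT h 1 0)).im ≠ 0 → esum U (χ : Cfsg.Sz F m → ℂ) ≤ (n : ℝ) - 1) :
    ∃ χ : Cfsg.IrrCharacter (Cfsg.Sz F m), χ ≠ Chars.trivialIrr (Cfsg.Sz F m) ∧ χ ≠ stChar h ∧
      ((χ : Cfsg.Sz F m → ℂ) (szT h 1 0)).im = 0 ∧ 0 < esum U (χ : Cfsg.Sz F m → ℂ) := by
  by_contra hc
  push Not at hc
  set A := ({Chars.trivialIrr (Cfsg.Sz F m), stChar h} : Finset (Cfsg.IrrCharacter (Cfsg.Sz F m))) ∪
    Finset.univ.filter (fun χ : Cfsg.IrrCharacter (Cfsg.Sz F m) => ((χ : Cfsg.Sz F m → ℂ) (szT h 1 0)).im ≠ 0)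
    with hA
  have hAcard : (A.card : ℝ) ≤ 4 := by
    have h1 := Finset.card_union_le ({Chars.trivialIrr (Cfsg.Sz F m), stChar h} : Finset (Cfsg.IrrCharacter (Cfsg.Sz F m)))
      (Finset.univ.filter fun χ : Cfsg.IrrCharacter (Cfsg.Sz F m) => ((χ : Cfsg.Sz F m → ℂ) (szT h 1 0)).im ≠ 0)
    rw [card_im_ne_zero h hU₁ hU₂, ← hA] at h1
    have h2 : ({Chars.trivialIrr (Cfsg.Sz F m), stChar h} : Finset (Cfsg.IrrCharacter (Cfsg.Sz F m))).card ≤ 2 :=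
      Finset.card_le_two
    exact_mod_cast (show A.card ≤ 4 by omega)
  have hn1 : (0 : ℝ) ≤ (n : ℝ) - 1 := by
    have : (5 : ℝ) ≤ n := by exact_mod_cast h5
    linarith
  have hin : ∀ χ ∈ A, esum U (χ : Cfsg.Sz F m → ℂ) ≤ (n : ℝ) - 1 := by
    intro χ hχ
    have hsmall : (∀ u ∈ U, u ≠ 1 → Complex.normSq ((χ : Cfsg.Sz F m → ℂ) u) ≤ 1) →
        esum U (χ : Cfsg.Sz F m → ℂ) ≤ (n : ℝ) - 1 := fun hb => by
      have := esum_le_of_le h hb
      rwa [hU.2, mul_one] at this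
    simp only [hA, Finset.mem_union, Finset.mem_insert, Finset.mem_singleton, Finset.mem_filter] at hχ
    rcases hχ with (rfl | rfl) | ⟨-, hχ⟩
    · exact hsmall fun u _ _ => by simp [Chars.trivialIrr_apply]
    · exact hsmall fun u hu hu1 => by
        rw [(stChar_values h).2.2 u (nofix_of_type h hU hn hu hu1)]; simp
    · exact hUk χ hχ
  have hout : ∀ χ : Cfsg.IrrCharacter (Cfsg.Sz F m), χ ∉ A → esum U (χ : Cfsg.Sz F m → ℂ) ≤ 0 := by
    intro χ hχ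
    simp only [hA, Finset.mem_union, Finset.mem_insert, Finset.mem_singleton, Finset.mem_filter,
      Finset.mem_univ, true_and, not_or, not_not] at hχ
    exact hc χ hχ.1.1 hχ.1.2 hχ.2
  have hle : ∑ χ : Cfsg.IrrCharacter (Cfsg.Sz F m), esum U (χ : Cfsg.Sz F m → ℂ) ≤ A.card * ((n : ℝ) - 1) := by
    rw [← Finset.sum_add_sum_compl A]
    have h1 := Finset.sum_le_card_nsmul A _ _ hin
    rw [nsmul_eq_mul] at h1
    have h2 := Finset.sum_nonpos (s := Aᶜ) fun χ hχ => hout χ (Finset.mem_compl.1 hχ)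
    linarith
  rw [sum_esum h hU.1, hU.2] at hle
  have : (5 : ℝ) ≤ n := by exact_mod_cast h5
  nlinarith

omit [Fintype (Cfsg.Sz F m)] in
theorem charDegree_natCast {G : Type*} [Group G] {χ : G → ℂ} {d : ℕ} (hd : χ 1 = d) : Cfsg.charDegree χ = d := by
  rw [Cfsg.charDegree, hd, Complex.natCast_re, Nat.floor_natCast]

/-- The degree set. -/
theorem charDegrees_eq : Cfsg.charDegrees (Cfsg.Sz F m) =
    {1, Fintype.card F ^ 2, Fintype.card F ^ 2 + 1, (Fintype.card F - 1) * 2 ^ m,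
      (Fintype.card F - 1) * n₁ h, (Fintype.card F - 1) * n₂ h} := by
  classical
  obtain ⟨h8, h4, hr, -⟩ := numbers h
  obtain ⟨U₁, hU₁⟩ := exists_member_card h (n₁ h) (Or.inr (Or.inl rfl))
  obtain ⟨U₂, hU₂⟩ := exists_member_card h (n₂ h) (Or.inr (Or.inr rfl))
  have hne1 : n₁ h ≠ n₀ h := by unfold n₁ n₀; omega
  have hne2 : n₂ h ≠ n₀ h := by unfold n₂ n₀; omega
  have K := kind_of_irr h hU₁ hU₂
  have hst : (stChar h : Cfsg.Sz F m → ℂ) 1 = ((Fintype.card F ^ 2 : ℕ) : ℂ) := by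
    rw [(stChar_values h).1]; push_cast; rfl
  have htr : (Chars.trivialIrr (Cfsg.Sz F m) : Cfsg.Sz F m → ℂ) 1 = ((1 : ℕ) : ℂ) := by
    simp [Chars.trivialIrr_apply]
  ext d
  simp only [Set.mem_insert_iff, Set.mem_singleton_iff]
  constructor
  · rintro ⟨χ, rfl⟩
    rcases K χ with rfl | rfl | k | k | k | k
    · exact Or.inl (charDegree_natCast h htr)
    · exact Or.inr (Or.inl (charDegree_natCast h hst))
    · exact Or.inr (Or.inr (Or.inl (charDegree_natCast h k.1)))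
    · exact Or.inr (Or.inr (Or.inr (Or.inl (charDegree_natCast h k.1))))
    · exact Or.inr (Or.inr (Or.inr (Or.inr (Or.inl (charDegree_natCast h k.1)))))
    · exact Or.inr (Or.inr (Or.inr (Or.inr (Or.inr (charDegree_natCast h k.1)))))
  · rintro (rfl | rfl | rfl | rfl | rfl | rfl)
    · exact ⟨_, charDegree_natCast h htr⟩
    · exact ⟨_, charDegree_natCast h hst⟩
    · obtain ⟨χ, hχ⟩ := exists_indB_irr h
      exact ⟨χ, charDegree_natCast h (by rw [hχ]; push_cast; rfl)⟩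
    · have h2 := card_im_ne_zero h hU₁ hU₂
      obtain ⟨χ, hχ⟩ := Finset.card_pos.1 (h2 ▸ two_pos)
      have him := (Finset.mem_filter.1 hχ).2
      rcases K χ with rfl | rfl | k | k | k | k
      · exact absurd (by simp [Chars.trivialIrr_apply]) him
      · exact absurd (by rw [(stChar_values h).2.1 1 0 (SuzukiSylow.szT_one_zero_ne_one h), Complex.zero_im]) him
      · exact absurd k.2.1 him
      · exact ⟨χ, charDegree_natCast h k.1⟩
      · exact absurd k.2.1 him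
      · exact absurd k.2.1 him
    · obtain ⟨χ, n1, n2, him, hpos⟩ := exists_small h hU₁ hU₂ hU₂ hne2 (by unfold n₂; omega) (fun χ hχ => by
        rcases K χ with rfl | rfl | k | k | k | k
        · exact absurd (by simp [Chars.trivialIrr_apply]) hχ
        · exact absurd (by rw [(stChar_values h).2.1 1 0 (SuzukiSylow.szT_one_zero_ne_one h), Complex.zero_im]) hχ
        · exact absurd k.2.1 hχ
        · exact k.2.2.2
        · exact absurd k.2.1 hχ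
        · exact absurd k.2.1 hχ)
      rcases K χ with e | e | k | k | k | k
      · exact absurd e n1
      · exact absurd e n2
      · exact absurd k.2.2.2 (not_le.2 hpos)
      · exfalso
        have h2 := k.2.1
        rw [him] at h2
        nlinarith [pow_pos (two_pos : (0 : ℝ) < 2) m]
      · exact ⟨χ, charDegree_natCast h k.1⟩
      · exact absurd k.2.2 (not_le.2 hpos)
    · obtain ⟨χ, n1, n2, him, hpos⟩ := exists_small h hU₁ hU₂ hU₁ hne1 (by unfold n₁; omega) (fun χ hχ => by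
        rcases K χ with rfl | rfl | k | k | k | k
        · exact absurd (by simp [Chars.trivialIrr_apply]) hχ
        · exact absurd (by rw [(stChar_values h).2.1 1 0 (SuzukiSylow.szT_one_zero_ne_one h), Complex.zero_im]) hχ
        · exact absurd k.2.1 hχ
        · exact k.2.2.1
        · exact absurd k.2.1 hχ
        · exact absurd k.2.1 hχ)
      rcases K χ with e | e | k | k | k | k
      · exact absurd e n1
      · exact absurd e n2
      · exact absurd k.2.2.1 (not_le.2 hpos)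
      · exfalso
        have h2 := k.2.1
        rw [him] at h2
        nlinarith [pow_pos (two_pos : (0 : ℝ) < 2) m]
      · exact absurd k.2.2 (not_le.2 hpos)
      · exact ⟨χ, charDegree_natCast h k.1⟩

end Cfsg.Agent.Lib.SuzukiChars
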